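import Cfsg.Agent.Lib.TwoPCent.Three

/-!
# No simple group has this configuration

`Hyp.false`: an abelian Sylow 2-subgroup of order at least 8 cannot occur when odd elements
centralizing involutions have order dividing one prime `p` and elements of order divisible by `p`
have order dividing `2p`.  If `|C(x)| = 2p`, a Sylow `p`-subgroup has order `p` and the transfer is
nontrivial; if `|C(x)| = 18`, the Sylow 3-subgroup `T` is the centralizer of an element `b` inverted
by `a`, and the transfer to `T / ⟨b⟩` is nontrivial.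
-/

set_option autoImplicit false
set_option linter.style.haveILetI false
set_option linter.unusedSectionVars false

namespace Cfsg.Agent.TwoPCent

open Cfsg Subgroup
open scoped Pointwise

universe u

variable {G : Type u} [Group G] {p : ℕ} {P : Sylow 2 G}

theorem eq_or_eq_inv_of_three {u z : G} (hu : orderOf u = 3) (hz : z ∈ zpowers u) (hz1 : z ≠ 1) :
    z = u ∨ z = u⁻¹ := by
  obtain ⟨k, rfl⟩ := hz
  have h3 : u ^ (3 : ℤ) = 1 := by
    rw [show (3 : ℤ) = ((3 : ℕ) : ℤ) from rfl, zpow_natCast, ← hu, pow_orderOf_eq_one]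
  have hk : u ^ k = u ^ (k % 3) := by
    conv_lhs => rw [← Int.mul_ediv_add_emod k 3, zpow_add, zpow_mul, h3, one_zpow, one_mul]
  simp only at hz1 ⊢
  rw [hk] at hz1 ⊢
  obtain e | e | e : k % 3 = 0 ∨ k % 3 = 1 ∨ k % 3 = 2 := by omega
  · rw [e, zpow_zero] at hz1; exact absurd rfl hz1
  · rw [e, zpow_one]; exact Or.inl rfl
  · rw [e]
    refine Or.inr (eq_inv_of_mul_eq_one_left ?_)
    rw [← zpow_add_one]
    exact h3

namespace Auto

variable [Finite G] {a x : G} {A : Subgroup G}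

/-- The case `|C(x)| = 2p`. -/
theorem false_of_two_p (au : Auto p P a x A) (h : Hyp p P)
    (hK : Nat.card (centralizer ({x} : Set G)) = 2 * p) : False := by
  haveI := Fact.mk h.prime
  haveI := h.simple
  set K := centralizer ({x} : Set G) with hKdef
  have hsmall : ∀ R : Subgroup G, IsPGroup p R → R ≤ K → Nat.card R ∣ p := fun R hR hRK => by
    obtain ⟨n, hn⟩ := hR.exists_card_eq
    have h1 := card_dvd_of_le hRK
    rw [hn, hK] at h1
    rw [hn]
    exact (((Nat.coprime_primes h.prime Nat.prime_two).2 h.ne_two).pow_left n).dvd_of_dvd_mul_left h1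
  obtain ⟨S, hS⟩ := (IsPGroup.of_card (G := zpowers x) (p := p) (n := 1)
    (by rw [Nat.card_zpowers, au.orderX, pow_one])).exists_le_sylow
  have hxS : x ∈ (S : Subgroup G) := hS (mem_zpowers x)
  have hSne : (S : Subgroup G) ≠ ⊥ := fun e => by
    rw [e, mem_bot] at hxS; exact au.x_ne_one h hxS
  haveI := (Subgroup.nontrivial_iff_ne_bot _).2 hSne
  obtain ⟨z, hz, hzo⟩ : ∃ z ∈ Subgroup.center (S : Subgroup G), z ≠ 1 := by
    haveI := S.2.center_nontrivial
    obtain ⟨⟨z, hz⟩, hz1⟩ := exists_ne (1 : Subgroup.center (S : Subgroup G))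
    exact ⟨z, hz, fun e => hz1 (Subtype.ext e)⟩
  have hzc : ∀ s ∈ (S : Subgroup G), s * (z : G) = z * s := fun s hs =>
    congrArg Subtype.val (Subgroup.mem_center_iff.1 hz ⟨s, hs⟩)
  have hzK : (z : G) ∈ K := mem_centralizer_singleton_iff.2 (hzc x hxS).symm
  have hSK : (S : Subgroup G) ≤ K := by
    by_cases hzx : (z : G) ∈ zpowers x
    · obtain ⟨j, hj⟩ := mem_zpowers_of_prime h.prime au.orderX hzx
        fun e => hzo (Subtype.ext e)
      refine fun s hs => mem_centralizer_singleton_iff.2 ?_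
      rw [← show (z : G) ^ j = x from hj]
      exact (show Commute s z from hzc s hs).zpow_right j
    · exfalso
      set R := zpowers x ⊔ zpowers (z : G)
      have hRK : R ≤ K := sup_le (zpowers_le.2 (mem_centralizer_singleton_iff.2 rfl))
        (zpowers_le.2 hzK)
      have hRS : R ≤ (S : Subgroup G) := sup_le hS (zpowers_le.2 z.2)
      have hRc := hsmall R (S.2.to_le hRS) hRK
      have heq : zpowers x = R := eq_of_le_of_card_ge le_sup_left (by
        rw [Nat.card_zpowers, au.orderX]; exact Nat.le_of_dvd h.prime.pos hRc)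
      exact hzx (heq ▸ mem_sup_right (mem_zpowers _))
  have hTS : zpowers x = (S : Subgroup G) := eq_of_le_of_card_ge hS (by
    rw [Nat.card_zpowers, au.orderX]
    exact Nat.le_of_dvd h.prime.pos (hsmall _ S.2 hSK))
  refine false_of_transfer h.noncomm h.prime (Abelianization.of : zpowers x →* _)
    (mem_zpowers x) au.orderX (fun e => au.x_ne_one h ?_) (by rw [hTS]; exact S.not_dvd_index)
    fun g hg => ?_
  · have h1 : _root_.commutator (zpowers x) = ⊥ := by
      rw [commutator_eq_bot_iff_center_eq_top, eq_top_iff]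
      rintro ⟨s, hs⟩ -
      refine Subgroup.mem_center_iff.2 fun w => Subtype.ext ?_
      obtain ⟨i, rfl⟩ := hs
      obtain ⟨j, hj⟩ := w.2
      show (w : G) * x ^ i = x ^ i * (w : G)
      rw [← show x ^ j = (w : G) from hj]
      exact (Commute.refl x).zpow_zpow j i
    have h2 : (⟨x, mem_zpowers x⟩ : zpowers x) ∈ _root_.commutator (zpowers x) :=
      (QuotientGroup.eq_one_iff _).1 e
    rw [h1, mem_bot] at h2
    exact congrArg Subtype.val h2
  · exact congrArg _ (Subtype.ext (au.eq_of_conj_mem h hg))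

/-- The case `|C(x)| = 18`. -/
theorem false_of_eighteen (au : Auto 3 P a x A) (h : Hyp 3 P)
    (hKc : Nat.card (centralizer ({x} : Set G)) = 18) : False := by
  haveI : Fact (Nat.Prime 3) := ⟨Nat.prime_three⟩
  haveI := h.simple
  set N := normalizer ((P : Subgroup G) : Set G) with hN
  set K := centralizer ({x} : Set G) with hK
  have hcube : ∀ {R : Subgroup G}, IsPGroup 3 R → ∀ z ∈ R, z ^ 3 = 1 := fun hR z hz => by
    obtain ⟨k, hk⟩ := IsPGroup.iff_orderOf.1 hR ⟨z, hz⟩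
    rw [Subgroup.orderOf_mk] at hk
    rcases k with _ | k
    · rw [orderOf_eq_one_iff.1 (hk.trans (pow_zero 3)), one_pow]
    · exact orderOf_dvd_iff_pow_eq_one.1
        (h.orderOf_p (hk ▸ dvd_pow_self 3 k.succ_ne_zero) (hk ▸ h.odd_p.pow)).dvd
  have hxK : x ∈ K := mem_centralizer_singleton_iff.2 rfl
  have hx3 : x ^ 3 = 1 := orderOf_dvd_iff_pow_eq_one.1 au.orderX.dvd
  -- the Sylow 3-subgroup of `K`
  obtain ⟨Q₀, hQ₀⟩ := Sylow.exists_subgroup_card_pow_prime 3 (G := K) (n := 2)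
    (by rw [hKc]; norm_num)
  have hQ₀i : Q₀.index = 2 := by
    have h1 := Q₀.card_mul_index
    rw [hQ₀, hKc] at h1
    omega
  set Q := Q₀.map K.subtype with hQdef
  have hQK : Q ≤ K := map_subtype_le _
  have hQc : Nat.card Q = 3 ^ 2 := by
    rw [hQdef, card_map_of_injective K.subtype_injective, hQ₀]
  have hQp : IsPGroup 3 Q := IsPGroup.of_card hQc
  have inQ : ∀ z ∈ K, z ^ 3 = 1 → z ∈ Q := fun z hz hz3 => by
    have h1 : (⟨z, hz⟩ : K) ^ 2 ∈ Q₀ := sq_mem_of_index_two hQ₀i _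
    have h2 : ((⟨z, hz⟩ : K) ^ 2) ^ 2 = ⟨z, hz⟩ := Subtype.ext (by
      simp only [SubmonoidClass.coe_pow, ← pow_mul]
      rw [show 2 * 2 = 3 + 1 from rfl, pow_add, hz3, one_mul, pow_one])
    exact ⟨⟨z, hz⟩, h2 ▸ pow_mem h1 2, rfl⟩
  have hxQ : x ∈ Q := inQ x hxK hx3
  have hQN : ∀ z ∈ Q, z ∈ N → z ∈ zpowers x := by
    intro z hz hzN
    have hd : Nat.card (Q ⊓ N : Subgroup G) ∣ 3 := by
      obtain ⟨n, hn⟩ := (hQp.to_le (inf_le_left (b := N))).exists_card_eq
      have h1 := card_dvd_of_le (inf_le_right : Q ⊓ N ≤ N)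
      rw [hn, au.cardN] at h1
      rw [hn]
      exact ((h.prime.coprime_iff_not_dvd.2 au.notdvd).pow_left n).dvd_of_dvd_mul_left
        (((h.prime.coprime_iff_not_dvd.2 (au.not_dvd_card_P h)).pow_left n).dvd_of_dvd_mul_left h1)
    have heq : zpowers x = Q ⊓ N := eq_of_le_of_card_ge
      (zpowers_le.2 (mem_inf.2 ⟨hxQ, au.memX⟩))
      (by rw [Nat.card_zpowers, au.orderX]; exact Nat.le_of_dvd (by norm_num) hd)
    rw [heq]; exact mem_inf.2 ⟨hz, hzN⟩
  -- the element `b`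
  have haK : a ∈ K := mem_centralizer_singleton_iff.2 au.commX.symm
  have haa : a * a = 1 := h.sq a au.memP
  have hainv : a⁻¹ = a := inv_eq_of_mul_eq_one_right haa
  have haQ : ∀ z ∈ Q, a * z * a⁻¹ ∈ Q := fun z hz =>
    inQ _ (mul_mem (mul_mem haK (hQK hz)) (inv_mem haK))
      (by rw [conj_pow, hcube hQp z hz]; group)
  obtain ⟨q, hq, hqx⟩ : ∃ q ∈ Q, q ∉ zpowers x := by
    by_contra hex
    push Not at hex
    have := card_dvd_of_le (show Q ≤ zpowers x from hex)
    rw [hQc, Nat.card_zpowers, au.orderX] at this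
    norm_num at this
  set b := q⁻¹ * (a * q * a⁻¹) with hb
  have hbQ : b ∈ Q := mul_mem (inv_mem hq) (haQ q hq)
  have hbne : b ≠ 1 := fun e => by
    rw [hb, inv_mul_eq_one] at e
    have h1 : q * a = a * q := (mul_inv_eq_iff_eq_mul.1 e.symm).symm
    exact hqx (hQN q hq (h.cent_le_N au.memP au.ne_one (mem_centralizer_singleton_iff.2 h1)))
  have hab : a * b * a⁻¹ = b⁻¹ := by
    rw [hainv, hb, hainv]
    simp only [mul_inv_rev, inv_inv, hainv, mul_assoc]
    simp [← mul_assoc a a, haa]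
  have hbo : orderOf b = 3 := orderOf_eq_prime (hcube hQp b hbQ) hbne
  have hbN : ∀ g : G, g * b * g⁻¹ ∉ N := fun g hg => by
    refine au.not_real_N h hg (by rw [Involution.StrongEmb.orderOf_conj', hbo]) (g * a * g⁻¹) ?_
    calc g * a * g⁻¹ * (g * b * g⁻¹) * (g * a * g⁻¹)⁻¹ = g * (a * b * a⁻¹) * g⁻¹ := by group
      _ = (g * b * g⁻¹)⁻¹ := by rw [hab]; group
  have hbx : Disjoint (zpowers x) (zpowers b) := disjoint_def.2 fun {z} hzx hzb => by
    by_contra hz1
    have h1 := mem_zpowers_of_prime Nat.prime_three hbo hzb hz1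
    refine hbN 1 ?_
    rw [one_mul, inv_one, mul_one]
    exact (zpowers_le.2 au.memX) ((zpowers_le.2 hzx) h1)
  have hQcomm : ∀ y ∈ Q, ∀ z ∈ Q, Commute y z := fun y hy z hz =>
    congrArg Subtype.val (IsPGroup.commutative_of_card_eq_prime_sq hQc ⟨y, hy⟩ ⟨z, hz⟩)
  have hdec : ∀ z ∈ Q, ∃ u ∈ zpowers x, ∃ w ∈ zpowers b, u * w = z := by
    intro z hz
    have hle : zpowers x ≤ normalizer (zpowers b : Set G) := zpowers_le.2
      (centralizer_le_normalizer _ (mem_centralizer_iff.2 fun y hy => by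
        obtain ⟨i, rfl⟩ := hy
        exact ((hQcomm x hxQ b hbQ).zpow_right i).symm.eq))
    refine (Coprime.mem_sup_iff_of_le_normalizer hle).1 ?_
    have heq : zpowers x ⊔ zpowers b = Q := eq_of_le_of_card_ge
      (sup_le (zpowers_le.2 hxQ) (zpowers_le.2 hbQ)) (by
        rw [Coprime.card_sup_of_le_normalizer hle (disjoint_iff.1 hbx), Nat.card_zpowers,
          Nat.card_zpowers, au.orderX, hbo, hQc]; norm_num)
    rw [heq]; exact hz
  have hxb : ∀ g : G, g * b * g⁻¹ ∉ zpowers x := fun g hg => hbN g ((zpowers_le.2 au.memX) hg)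
  have hxnb : ∀ g : G, g * x * g⁻¹ ∉ zpowers b := fun g hg => by
    have hne : g * x * g⁻¹ ≠ 1 := fun e => au.x_ne_one h (conj_eq_one_iff.1 e)
    obtain ⟨j, hj⟩ := mem_zpowers_of_prime Nat.prime_three hbo hg hne
    refine hxb g⁻¹ ⟨j, ?_⟩
    show x ^ j = g⁻¹ * b * g⁻¹⁻¹
    rw [← show (g * x * g⁻¹) ^ j = b from hj, conj_zpow]
    group
  -- if some conjugate of `x` lies in `Q` outside `⟨x⟩`, only `⟨b⟩` has no conjugate of `x`
  have onlyB : ∀ g₀ : G, g₀ * x * g₀⁻¹ ∈ Q → g₀ * x * g₀⁻¹ ∉ zpowers x →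
      ∀ z ∈ Q, z ∉ zpowers b → ∃ c : G, c * z * c⁻¹ ∈ zpowers x := by
    intro g₀ h₀Q h₀x z hz hzb
    obtain ⟨u, hu, w, hw, huw⟩ := hdec _ h₀Q
    obtain ⟨u', hu', w', hw', rfl⟩ := hdec z hz
    by_cases hw'1 : w' = 1
    · exact ⟨1, by rw [hw'1]; simpa using hu'⟩
    have hw1 : w ≠ 1 := fun e => h₀x (by rw [← huw, e, mul_one]; exact hu)
    have hu1 : u ≠ 1 := fun e => hxnb g₀ (by rw [← huw, e, one_mul]; exact hw)
    have hu'1 : u' ≠ 1 := fun e => hzb (by rw [e, one_mul]; exact hw')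
    have huo : orderOf u = 3 := (Nat.prime_three.eq_one_or_self_of_dvd _
      (au.orderX ▸ orderOf_dvd_of_mem_zpowers hu)).resolve_left
        fun e => hu1 (orderOf_eq_one_iff.1 e)
    have hwo : orderOf w = 3 := (Nat.prime_three.eq_one_or_self_of_dvd _
      (hbo ▸ orderOf_dvd_of_mem_zpowers hw)).resolve_left
        fun e => hw1 (orderOf_eq_one_iff.1 e)
    have hcuw : Commute u w := hQcomm u (zpowers_le.2 hxQ hu) w (zpowers_le.2 hbQ hw)
    have hau : a * u * a⁻¹ = u := by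
      obtain ⟨i, rfl⟩ := hu
      show a * x ^ i * a⁻¹ = x ^ i
      rw [← conj_zpow, ← au.commX, mul_inv_cancel_right]
    have haw : a * w * a⁻¹ = w⁻¹ := by
      obtain ⟨i, rfl⟩ := hw
      show a * b ^ i * a⁻¹ = (b ^ i)⁻¹
      rw [← conj_zpow, hab, inv_zpow]
    have hg₀ : g₀⁻¹ * (u * w) * g₀⁻¹⁻¹ = x := by rw [huw]; group
    have hg₀' : g₀⁻¹ * (u * w)⁻¹ * g₀⁻¹⁻¹ = x⁻¹ := by rw [← hg₀]; group
    rcases eq_or_eq_inv_of_three huo (zpowers_le.2 (mem_zpowers_of_prime Nat.prime_three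
        au.orderX hu hu1) hu') hu'1 with e1 | e1 <;>
      rcases eq_or_eq_inv_of_three hwo (zpowers_le.2 (mem_zpowers_of_prime Nat.prime_three
        hbo hw hw1) hw') hw'1 with e2 | e2
    · exact ⟨g₀⁻¹, by rw [e1, e2, hg₀]; exact mem_zpowers x⟩
    · refine ⟨g₀⁻¹ * a, ?_⟩
      rw [show g₀⁻¹ * a * (u' * w') * (g₀⁻¹ * a)⁻¹ =
        g₀⁻¹ * (a * u' * a⁻¹ * (a * w' * a⁻¹)) * g₀⁻¹⁻¹ by group, e1, e2, hau,
        show a * w⁻¹ * a⁻¹ = w by rw [← conj_inv, haw, inv_inv], hg₀]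
      exact mem_zpowers x
    · refine ⟨g₀⁻¹ * a, ?_⟩
      rw [show g₀⁻¹ * a * (u' * w') * (g₀⁻¹ * a)⁻¹ =
        g₀⁻¹ * (a * u' * a⁻¹ * (a * w' * a⁻¹)) * g₀⁻¹⁻¹ by group, e1, e2, haw,
        show a * u⁻¹ * a⁻¹ = u⁻¹ by rw [← conj_inv, hau],
        show u⁻¹ * w⁻¹ = (u * w)⁻¹ by rw [hcuw.eq, mul_inv_rev], hg₀']
      exact inv_mem (mem_zpowers x)
    · exact ⟨g₀⁻¹, by
        rw [e1, e2, show u⁻¹ * w⁻¹ = (u * w)⁻¹ by rw [hcuw.eq, mul_inv_rev], hg₀']
        exact inv_mem (mem_zpowers x)⟩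
  -- the centralizer of `b` is a Sylow 3-subgroup
  set C := centralizer ({b} : Set G) with hC
  have hCp : IsPGroup 3 C := by
    refine IsPGroup.of_card (Nat.eq_prime_pow_of_unique_prime_dvd Nat.card_pos.ne'
      fun {r} hr hrd => ?_)
    by_contra hr3
    haveI := Fact.mk hr
    obtain ⟨⟨y, hy⟩, hyo⟩ := exists_prime_orderOf_dvd_card' (G := C) r hrd
    rw [Subgroup.orderOf_mk] at hyo
    have hyb : y * b = b * y := mem_centralizer_singleton_iff.1 hy
    rcases eq_or_ne r 2 with rfl | hr2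
    · obtain ⟨g, hg⟩ := isConj_iff.1
        (Involution.StrongEmb.isConj_involutions h.stronglyEmbedded hyo (au.orderA h))
      refine hbN g (h.cent_le_N au.memP au.ne_one (mem_centralizer_singleton_iff.2 ?_))
      rw [← hg]
      calc g * b * g⁻¹ * (g * y * g⁻¹) = g * (b * y) * g⁻¹ := by group
        _ = g * (y * b) * g⁻¹ := by rw [hyb]
        _ = g * y * g⁻¹ * (g * b * g⁻¹) := by group
    · have := h.eq_one_of_commute hbo (y := y)
        (by rw [hyo]; exact h.coprime_two_p hr hr2 hr3) hyb.symm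
      rw [this, orderOf_one] at hyo
      exact hr.one_lt.ne hyo
  obtain ⟨T, hQT⟩ := hQp.exists_le_sylow
  have hxT : x ∈ (T : Subgroup G) := hQT hxQ
  have hT3 : ∀ t ∈ (T : Subgroup G), t ^ 3 = 1 := hcube T.2
  have hconjQ : ∀ t ∈ (T : Subgroup G), t * x * t⁻¹ ∈ Q := by
    intro t ht
    have h1 : (t ^ 2)⁻¹ = t := inv_eq_of_mul_eq_one_right (by rw [← pow_succ]; exact hT3 t ht)
    set v := t * x * t⁻¹ with hv
    set w := t ^ 2 * x * (t ^ 2)⁻¹ with hw
    have e1 : x * v * w = 1 := by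
      have := hT3 (x * t) (mul_mem hxT ht)
      rw [pow_three, ← mul_assoc] at this
      calc x * v * w = x * t * (x * t) * (x * (t ^ 2)⁻¹) := by rw [hv, hw]; group
        _ = 1 := by rw [h1]; exact this
    have e2 : x * w * v = 1 := by
      have := hT3 (x * t⁻¹) (mul_mem hxT (inv_mem ht))
      have h2 : t⁻¹ = t ^ 2 := inv_eq_of_mul_eq_one_right (by rw [← pow_succ']; exact hT3 t ht)
      calc x * w * v = x * t ^ 2 * (x * (t ^ 2)⁻¹) * (t * (x * t⁻¹)) := by rw [hv, hw]; group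
        _ = x * t⁻¹ * (x * (t ^ 2)⁻¹) * (t * (x * t⁻¹)) := by rw [h2]
        _ = (x * t⁻¹) ^ 3 := by rw [pow_three]; group
        _ = 1 := this
    have hwv : w = (x * v)⁻¹ := (inv_eq_of_mul_eq_one_right e1).symm
    rw [hwv] at e2
    have hc : v * x = x * v := by
      have h3 : x * (x * v)⁻¹ * v = 1 := e2
      rw [mul_inv_rev, mul_eq_one_iff_eq_inv] at h3
      have h4 := congrArg (fun s => s⁻¹) h3
      simp only [mul_inv_rev, inv_inv] at h4
      exact (mul_inv_eq_iff_eq_mul.1 h4).symm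
    refine inQ _ (mem_centralizer_singleton_iff.2 hc) ?_
    rw [hv, conj_pow, hx3]; group
  have hKT : ∀ t ∈ (T : Subgroup G), Commute t x → t ∈ Q := fun t ht hc =>
    inQ t (mem_centralizer_singleton_iff.2 hc.eq) (hT3 t ht)
  have hmoved : ∀ t ∈ (T : Subgroup G), t ∉ Q →
      ∀ z ∈ Q, z ∉ zpowers b → ∃ c : G, c * z * c⁻¹ ∈ zpowers x := fun t ht htQ =>
    onlyB t (hconjQ t ht) fun hm => htQ (hKT t ht (au.norm_eq_cent h hm))
  have hTb : (T : Subgroup G) ≤ C := by
    by_cases hTQ : ∀ t ∈ (T : Subgroup G), t ∈ Q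
    · exact fun t ht => mem_centralizer_singleton_iff.2 (hQcomm t (hTQ t ht) b hbQ).eq
    push Not at hTQ
    obtain ⟨t₀, ht₀, ht₀Q⟩ := hTQ
    haveI : Nontrivial (T : Subgroup G) :=
      ⟨⟨⟨x, hxT⟩, 1, fun e => au.x_ne_one h (congrArg Subtype.val e)⟩⟩
    haveI := T.2.center_nontrivial
    obtain ⟨⟨⟨z, hzT⟩, hz⟩, hz1⟩ := exists_ne (1 : Subgroup.center (T : Subgroup G))
    have hz1' : z ≠ 1 := fun e => hz1 (Subtype.ext (Subtype.ext e))
    have hzc : ∀ t ∈ (T : Subgroup G), Commute t z := fun t ht =>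
      congrArg Subtype.val (Subgroup.mem_center_iff.1 hz ⟨t, ht⟩)
    have hzQ : z ∈ Q := hKT z hzT (hzc x hxT).symm
    by_cases hzb : z ∈ zpowers b
    · obtain ⟨j, hj⟩ := mem_zpowers_of_prime Nat.prime_three hbo hzb hz1'
      exact fun t ht => mem_centralizer_singleton_iff.2 (hj ▸ ((hzc t ht).zpow_right j).eq)
    exfalso
    obtain ⟨c, hc⟩ := hmoved t₀ ht₀ ht₀Q z hzQ hzb
    obtain ⟨j, hj⟩ := mem_zpowers_of_prime Nat.prime_three au.orderX hc
      fun e => hz1' (conj_eq_one_iff.1 e)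
    set T' := (T : Subgroup G).map (MulAut.conj c).toMonoidHom
    have hT'Q : T' ≤ Q := by
      rintro _ ⟨t, ht, rfl⟩
      show c * t * c⁻¹ ∈ Q
      refine inQ _ (mem_centralizer_singleton_iff.2 ?_) (by rw [conj_pow, hT3 t ht]; group)
      rw [← show (c * z * c⁻¹) ^ j = x from hj]
      exact (((hzc t ht).map (MulAut.conj c).toMonoidHom).zpow_right j).eq
    have hle : Nat.card (T : Subgroup G) ≤ Nat.card Q := by
      rw [← card_map_of_injective (K := (T : Subgroup G)) (f := (MulAut.conj c).toMonoidHom)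
        (MulAut.conj c).injective]
      exact card_le_of_le hT'Q
    exact ht₀Q (eq_of_le_of_card_ge hQT hle ▸ ht₀)
  have hCT : C = (T : Subgroup G) := T.is_maximal' hCp hTb
  have hbT : b ∈ (T : Subgroup G) := hQT hbQ
  have hbc : ∀ w ∈ zpowers b, ∀ t ∈ (T : Subgroup G), Commute t w := fun w hw t ht => by
    obtain ⟨j, rfl⟩ := hw
    exact (show Commute t b from mem_centralizer_singleton_iff.1 (hTb ht)).zpow_right j
  -- `T` moves `x` inside `x ⟨b⟩`
  have hθ : ∀ t ∈ (T : Subgroup G), t * x * t⁻¹ * x⁻¹ ∈ zpowers b := by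
    intro t ht
    obtain ⟨u, hu, w, hw, huw⟩ := hdec _ (hconjQ t ht)
    by_cases hu1 : u = 1
    · exact absurd (by rw [← huw, hu1, one_mul]; exact hw) (hxnb t)
    rcases eq_or_eq_inv_of_three au.orderX hu hu1 with e | e <;> rw [e] at huw
    · rw [← huw, ((hbc w hw x hxT).eq), mul_inv_cancel_right]
      exact hw
    exfalso
    have hwt : t * w * t⁻¹ = w := by rw [(hbc w hw t ht).eq, mul_inv_cancel_right]
    have hwx : x * w = w * x := (hbc w hw x hxT).eq
    have h2 : Commute (t ^ 2) x := mul_inv_eq_iff_eq_mul.1 (by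
      calc t ^ 2 * x * (t ^ 2)⁻¹ = t * (t * x * t⁻¹) * t⁻¹ := by rw [pow_two]; group
        _ = t * (x⁻¹ * w) * t⁻¹ := by rw [← huw]
        _ = (t * x * t⁻¹)⁻¹ * (t * w * t⁻¹) := by group
        _ = w⁻¹ * (x * w) := by rw [hwt, ← huw]; group
        _ = x := by rw [hwx, inv_mul_cancel_left])
    have h3 : Commute t x := by
      have := h2.pow_left 2
      rwa [← pow_mul, show 2 * 2 = 3 + 1 from rfl, pow_add, hT3 t ht, one_mul, pow_one] at this
    rw [h3.eq, mul_inv_cancel_right, inv_mul_eq_iff_eq_mul] at huw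
    have h4 : x * x = 1 := disjoint_def.1 hbx (mul_mem (mem_zpowers x) (mem_zpowers x)) (huw ▸ hw)
    have h5 : orderOf x ∣ 2 := orderOf_dvd_of_pow_eq_one (by rw [pow_two]; exact h4)
    rw [au.orderX] at h5
    norm_num at h5
  -- the quotient `T / ⟨b⟩` is abelian
  set B := (zpowers b).subgroupOf (T : Subgroup G) with hB
  haveI hBn : B.Normal := ⟨fun w hw t => by
    have h1 := hbc _ (mem_subgroupOf.1 hw) t t.2
    rw [mem_subgroupOf] at hw ⊢
    simpa [h1.eq] using hw⟩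
  have hcomm : ∀ s t : (T : Subgroup G) ⧸ B, s * t = t * s := by
    set Qs := Q.subgroupOf (T : Subgroup G)
    have hidx : Qs.index ≤ 3 := by
      rw [index_eq_card]
      refine le_trans ?_ (le_of_eq ((Nat.card_zpowers b).trans hbo))
      refine Nat.card_le_card_of_injective (fun q : (T : Subgroup G) ⧸ Qs =>
        (⟨(q.out : G) * x * (q.out : G)⁻¹ * x⁻¹, hθ _ q.out.2⟩ : zpowers b)) fun q r e => ?_
      have e1 : (q.out : G) * x * (q.out : G)⁻¹ = (r.out : G) * x * (r.out : G)⁻¹ :=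
        mul_right_cancel (congrArg Subtype.val e)
      rw [← QuotientGroup.out_eq' q, ← QuotientGroup.out_eq' r, QuotientGroup.eq, mem_subgroupOf]
      refine hKT _ (q.out⁻¹ * r.out).2 ?_
      show ((q.out : G))⁻¹ * (r.out : G) * x = x * ((q.out : G)⁻¹ * (r.out : G))
      calc (q.out : G)⁻¹ * (r.out : G) * x
          = (q.out : G)⁻¹ * ((r.out : G) * x * (r.out : G)⁻¹) * (r.out : G) := by group
        _ = (q.out : G)⁻¹ * ((q.out : G) * x * (q.out : G)⁻¹) * (r.out : G) := by rw [e1]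
        _ = x * ((q.out : G)⁻¹ * (r.out : G)) := by group
    have hTc : Nat.card (T : Subgroup G) ≤ 27 := by
      rw [← Qs.card_mul_index, Nat.card_congr (subgroupOfEquivOfLe hQT).toEquiv, hQc]
      omega
    have hBc : Nat.card B = 3 := by
      rw [Nat.card_congr (subgroupOfEquivOfLe (zpowers_le.2 hbT)).toEquiv, Nat.card_zpowers, hbo]
    have hquot : Nat.card ((T : Subgroup G) ⧸ B) ≤ 9 := by
      have := B.card_eq_card_quotient_mul_card_subgroup
      rw [hBc] at this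
      omega
    obtain ⟨k, hk⟩ := (T.2.to_quotient B).exists_card_eq
    have hk2 : k ≤ 2 := by
      by_contra hk3
      have := Nat.pow_le_pow_right (show 0 < 3 by norm_num) (show 3 ≤ k by omega)
      omega
    intro s t
    interval_cases k
    · haveI := (Nat.card_eq_one_iff_unique.1 (hk.trans (pow_zero 3))).1
      exact Subsingleton.elim _ _
    · haveI := isCyclic_of_prime_card (hk.trans (pow_one 3))
      exact mul_comm' s t
    · exact IsPGroup.commutative_of_card_eq_prime_sq hk s t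
  letI : CommGroup ((T : Subgroup G) ⧸ B) :=
    { (inferInstance : Group ((T : Subgroup G) ⧸ B)) with mul_comm := hcomm }
  refine false_of_transfer h.noncomm Nat.prime_three (QuotientGroup.mk' B) hxT au.orderX
    (fun e => hxnb 1 ?_) T.not_dvd_index fun g hg => ?_
  · have h1 := mem_subgroupOf.1 ((QuotientGroup.eq_one_iff _).1 e)
    simpa using h1
  suffices hkey : g⁻¹ * x * g * x⁻¹ ∈ zpowers b by
    refine QuotientGroup.eq_iff_div_mem.2 (mem_subgroupOf.2 ?_)
    simpa [div_eq_mul_inv] using hkey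
  by_cases hgx : g⁻¹ * x * g ∈ zpowers x
  · rw [au.eq_of_conj_mem h hgx, mul_inv_cancel]; exact one_mem _
  have hB' : ∀ z ∈ Q, z ∉ zpowers b → ∃ c : G, c * z * c⁻¹ ∈ zpowers x := by
    by_cases hTQ : ∀ t ∈ (T : Subgroup G), t ∈ Q
    · exact onlyB g⁻¹ (by rw [inv_inv]; exact hTQ _ hg) (by rwa [inv_inv])
    · push Not at hTQ
      obtain ⟨t₀, ht₀, ht₀Q⟩ := hTQ
      exact hmoved t₀ ht₀ ht₀Q
  have hgbQ : g * b * g⁻¹ ∈ Q := by
    refine inQ _ (mem_centralizer_singleton_iff.2 ?_) (by rw [conj_pow, hcube hQp b hbQ]; group)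
    have h1 : g⁻¹ * x * g * b = b * (g⁻¹ * x * g) := (hbc b (mem_zpowers b) _ hg).eq
    calc g * b * g⁻¹ * x = g * (b * (g⁻¹ * x * g)) * g⁻¹ := by group
      _ = g * (g⁻¹ * x * g * b) * g⁻¹ := by rw [h1]
      _ = x * (g * b * g⁻¹) := by group
  have hgb : g * b * g⁻¹ ∈ zpowers b := by
    by_contra hgb
    obtain ⟨c, hc⟩ := hB' _ hgbQ hgb
    refine hxb (c * g) ?_
    rwa [show c * g * b * (c * g)⁻¹ = c * (g * b * g⁻¹) * c⁻¹ by group]
  have hgb1 : g * b * g⁻¹ ≠ 1 := fun e => hbne (conj_eq_one_iff.1 e)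
  have hmemT : ∀ t : G, t * b * t⁻¹ = b → t ∈ (T : Subgroup G) := fun t ht =>
    hCT ▸ mem_centralizer_singleton_iff.2 (mul_inv_eq_iff_eq_mul.1 ht)
  rcases eq_or_eq_inv_of_three hbo hgb hgb1 with e | e
  · have := hθ g⁻¹ (inv_mem (hmemT g e))
    rwa [inv_inv] at this
  · have ht : a * g ∈ (T : Subgroup G) := hmemT _ (by
      calc a * g * b * (a * g)⁻¹ = a * (g * b * g⁻¹) * a⁻¹ := by group
        _ = (a * b * a⁻¹)⁻¹ := by rw [e]; group
        _ = b := by rw [hab, inv_inv])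
    have := hθ _ (inv_mem ht)
    rwa [inv_inv, show (a * g)⁻¹ * x * (a * g) = g⁻¹ * x * g by
      calc (a * g)⁻¹ * x * (a * g) = g⁻¹ * (a⁻¹ * (x * a)) * g := by group
        _ = g⁻¹ * x * g := by rw [au.commX, inv_mul_cancel_left]] at this

end Auto

/-- **The configuration is impossible.** -/
theorem Hyp.false [Finite G] (h : Hyp p P) : False := by
  obtain ⟨a, x, A, au⟩ := h.exists_auto
  rcases au.card_cent h with hc | ⟨rfl, hc⟩
  · exact au.false_of_two_p h hc
  · exact au.false_of_eighteen h hc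

end Cfsg.Agent.TwoPCent
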