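import Cfsg.Agent.Lib.AbelianCent.Fpf

/-!
# A cyclic operator with vanishing norm forces trivial action

If `U` normalizes the `p`-group `V`, the element `x` of order `p` normalizes both and fixes only the
identity of `U`, and every `v x` with `v ∈ V` has order dividing `p`, then `U` centralizes `V`: the
norm of `x` vanishes on `V / Φ(V)`, so does every fixed point of `U` there.
-/

set_option autoImplicit false

namespace Cfsg.Agent.TwoPCent

open Subgroup AbelianCent
open scoped Pointwise commutatorElement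

variable {X : Type*} [Group X]

open scoped IsMulCommutative in
/-- The power of a twisted element is a norm times a power. -/
theorem mul_pow_eq_prod (N : Subgroup X) [IsMulCommutative N] {x : X} (f : ℕ → N) {v : X}
    (hf : ∀ i, (f i : X) = x ^ i * v * (x ^ i)⁻¹) (n : ℕ) :
    (v * x) ^ n = ((∏ i ∈ Finset.range n, f i : N) : X) * x ^ n := by
  induction n with
  | zero => simp
  | succ n ih =>
      rw [pow_succ, ih, Finset.prod_range_succ, Subgroup.coe_mul, hf, pow_succ]
      group

variable [Finite X]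

/-- An operator of vanishing norm on the abelian group `V`, fixed-point-free on `U`, forces `U`
to centralise `V`. -/
theorem le_centralizer_of_norm {V U : Subgroup X} {x : X} [IsMulCommutative V]
    (hUV : U ≤ normalizer (V : Set X)) (hxV : x ∈ normalizer (V : Set X))
    (hxU : x ∈ normalizer (U : Set X)) (hcop : (Nat.card U).Coprime (Nat.card V))
    (hU : ∀ l ∈ zpowers x, l ≠ 1 → ∀ u ∈ U, l * u = u * l → u = 1)
    (hexp : ∀ v ∈ V, (v * x) ^ orderOf x = 1) : U ≤ centralizer (V : Set X) := by
  classical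
  set L := zpowers x with hLdef
  have hLV : L ≤ normalizer (V : Set X) := zpowers_le.2 hxV
  have hLU : L ≤ normalizer (U : Set X) := zpowers_le.2 hxU
  have := Fintype.ofFinite U
  have := Fintype.ofFinite L
  open scoped IsMulCommutative in
  suffices key : ∀ u₀ : U, ∀ v : V, (u₀ : X) * v = v * u₀ from
    fun u hu => mem_centralizer_iff.2 fun v hv => (key ⟨u, hu⟩ ⟨v, hv⟩).symm
  open scoped IsMulCommutative in
  let N := normalizer (V : Set X)
  open scoped IsMulCommutative in
  let T : N → V →* V := fun g => MonoidHom.mk'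
    (fun v => ⟨(g : X) * v * (g : X)⁻¹, (mem_normalizer_iff.1 g.2 _).1 v.2⟩)
    fun a b => Subtype.ext (by simp only [Subgroup.coe_mul]; group)
  open scoped IsMulCommutative in
  have Tmul : ∀ (g h : N) (v : V), T g (T h v) = T (g * h) v := fun g h v => Subtype.ext (by
    simp only [T, MonoidHom.mk'_apply, Subgroup.coe_mul]; group)
  open scoped IsMulCommutative in
  let iU : U → N := fun u => ⟨u, hUV u.2⟩
  open scoped IsMulCommutative in
  let iL : L → N := fun l => ⟨l, hLV l.2⟩
  open scoped IsMulCommutative in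
  intro u₀ v
  open scoped IsMulCommutative in
  let S : V →* V := ∏ u : U, T (iU u)
  open scoped IsMulCommutative in
  have Sapp : ∀ w : V, S w = ∏ u : U, T (iU u) w := fun w => by
    simp only [S, MonoidHom.finsetProd_apply]
  open scoped IsMulCommutative in
  have norm1 : ∀ w : V, ∏ l : L, T (iL l) w = 1 := by
    intro w
    let f : ℕ → V := fun i => T (iL ⟨x ^ i, pow_mem (mem_zpowers x) i⟩) w
    have hpow := mul_pow_eq_prod V f (x := x) (v := (w : X)) (fun i => rfl) (orderOf x)
    rw [hexp w w.2, pow_orderOf_eq_one, mul_one] at hpow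
    have h0 : ∏ i ∈ Finset.range (orderOf x), f i = 1 := Subtype.ext hpow.symm
    rw [← h0, Finset.prod_range]
    refine (Fintype.prod_equiv (finEquivZPowers (isOfFinOrder_of_finite x)) _ _ fun i => ?_).symm
    simp only [f, finEquivZPowers_apply]
  open scoped IsMulCommutative in
  have inner : ∀ l : L, l ≠ 1 →
      ∏ u : U, T (iU u * iL l * (iU u)⁻¹) v = S (T (iL l) v) := by
    intro l hl
    have hl' : (l : X) ≠ 1 := fun h => hl (Subtype.ext h)
    let φ : U → U := fun u =>
      u * ⟨(l : X) * (u : X)⁻¹ * (l : X)⁻¹, (mem_normalizer_iff.1 (hLU l.2) _).1 (inv_mem u.2)⟩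
    have hφ : Function.Injective φ := by
      intro a b hab
      have e : (a : X) * ((l : X) * (a : X)⁻¹ * (l : X)⁻¹) =
          b * ((l : X) * (b : X)⁻¹ * (l : X)⁻¹) := congrArg Subtype.val hab
      have e' : (a : X) * (l : X) * (a : X)⁻¹ = b * (l : X) * (b : X)⁻¹ :=
        calc (a : X) * (l : X) * (a : X)⁻¹ = (a : X) * ((l : X) * (a : X)⁻¹ * (l : X)⁻¹) * l := by group
          _ = b * ((l : X) * (b : X)⁻¹ * (l : X)⁻¹) * l := by rw [e]
          _ = _ := by group
      have hc : (l : X) * ((a : X)⁻¹ * b) = (a : X)⁻¹ * b * l := by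
        calc (l : X) * ((a : X)⁻¹ * b) = (a : X)⁻¹ * ((a : X) * l * (a : X)⁻¹) * b := by group
          _ = (a : X)⁻¹ * ((b : X) * l * (b : X)⁻¹) * b := by rw [e']
          _ = (a : X)⁻¹ * b * l := by group
      have h1 := hU l l.2 hl' _ (mul_mem (inv_mem a.2) b.2) hc
      exact Subtype.ext (inv_mul_eq_one.1 h1)
    rw [Sapp]
    refine Fintype.prod_bijective φ (Finite.injective_iff_bijective.1 hφ) _ _ fun u => ?_
    rw [Tmul]
    congr 2
    refine Subtype.ext ?_
    simp only [φ, iU, iL, Subgroup.coe_mul, Subgroup.coe_inv]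
    group
  open scoped IsMulCommutative in
  have main : S v = v ^ Fintype.card U := by
    have h1 : ∀ u : U, ∏ l : L, T (iU u * iL l * (iU u)⁻¹) v = 1 := by
      intro u
      have h2 := congrArg (T (iU u)) (norm1 (T (iU u)⁻¹ v))
      rw [map_prod, map_one] at h2
      rw [← h2]
      refine Finset.prod_congr rfl fun l _ => ?_
      rw [Tmul, Tmul, mul_assoc]
    have h2 : ∏ l : L, ∏ u : U, T (iU u * iL l * (iU u)⁻¹) v = 1 := by
      rw [Finset.prod_comm]
      exact Finset.prod_eq_one fun u _ => h1 u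
    have h3 : S (∏ l : L, T (iL l) v) = 1 := by rw [norm1, map_one]
    rw [map_prod] at h3
    rw [← Finset.mul_prod_erase _ _ (Finset.mem_univ (1 : L))] at h2 h3
    have hL1 : T (iL 1) v = v := Subtype.ext (by simp [T, iL])
    have h4 : ∏ u : U, T (iU u * iL 1 * (iU u)⁻¹) v = v ^ Fintype.card U := by
      rw [← Finset.card_univ, ← Finset.prod_const]
      refine Finset.prod_congr rfl fun u _ => Subtype.ext ?_
      simp only [T, iU, iL, MonoidHom.mk'_apply, Subgroup.coe_mul, Subgroup.coe_inv,
        Subgroup.coe_one]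
      group
    rw [Finset.prod_congr rfl (fun l hl => inner l (Finset.ne_of_mem_erase hl)), h4] at h2
    rw [hL1] at h3
    exact (mul_right_cancel (h3.trans h2.symm))
  open scoped IsMulCommutative in
  have fix : T (iU u₀) (S v) = S v := by
    rw [Sapp, map_prod]
    refine Fintype.prod_equiv (Equiv.mulLeft u₀) _ _ fun u => ?_
    rw [Tmul]
    rfl
  open scoped IsMulCommutative in
  rw [main, map_pow] at fix
  have hcopV : (Nat.card V).Coprime (Fintype.card U) := by
    rw [Nat.card_eq_fintype_card (α := U)] at hcop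
    exact hcop.symm
  open scoped IsMulCommutative in
  have h5 : T (iU u₀) v = v := (powCoprime hcopV).injective fix
  exact mul_inv_eq_iff_eq_mul.1 (congrArg Subtype.val h5)

/-- `le_centralizer_of_norm` for a `p`-group `V`. -/
theorem le_centralizer_of_norm_pgroup {p : ℕ} [Fact p.Prime] {V U : Subgroup X} {x : X}
    (hVp : IsPGroup p V) (hUV : U ≤ normalizer (V : Set X)) (hxV : x ∈ normalizer (V : Set X))
    (hxU : x ∈ normalizer (U : Set X)) (hx : orderOf x = p) (hUp : ¬ p ∣ Nat.card U)
    (hcop : (Nat.card U).Coprime (Nat.card V))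
    (hU : ∀ l ∈ zpowers x, l ≠ 1 → ∀ u ∈ U, l * u = u * l → u = 1)
    (hexp : ∀ v ∈ V, (v * x) ^ p = 1) : U ≤ centralizer (V : Set X) := by
  set Φ := (frattini V).map V.subtype with hΦ
  have hN : normalizer (V : Set X) ≤ normalizer (Φ : Set X) :=
    Components.normalizer_le_normalizer_map_of_characteristic V (frattini V)
  have := hVp.isNilpotent
  let Y := normalizer (Φ : Set X)
  have : (Φ.subgroupOf Y).Normal := normal_in_normalizer
  let π := QuotientGroup.mk' (Φ.subgroupOf Y)
  have hmk : ∀ {y : Y}, π y = 1 ↔ (y : X) ∈ Φ := fun {y} => by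
    rw [QuotientGroup.mk'_apply, QuotientGroup.eq_one_iff, mem_subgroupOf]
  have hVY : V ≤ Y := le_normalizer.trans hN
  have hUY : U ≤ Y := hUV.trans hN
  let V' := V.subgroupOf Y
  let U' := U.subgroupOf Y
  haveI : IsMulCommutative (V'.map π) := ⟨⟨by
    rintro ⟨_, a, ha, rfl⟩ ⟨_, b, hb, rfl⟩
    refine Subtype.ext ?_
    show π a * π b = π b * π a
    rw [← commutatorElement_eq_one_iff_mul_comm, ← map_commutatorElement, hmk]
    have h1 : commutator V ≤ frattini V := PGroup.commutator_le_frattini hVp
    refine (show ⁅V, V⁆ ≤ Φ from ?_) (commutator_mem_commutator ha hb)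
    rw [← map_subtype_commutator]
    exact map_mono h1⟩⟩
  have hn : ∀ {Q : Subgroup X} {y : Y}, (y : X) ∈ normalizer (Q : Set X) →
      π y ∈ normalizer (((Q.subgroupOf Y).map π : Subgroup _) : Set _) := fun {Q y} hy =>
    le_normalizer_map π ⟨y, mem_normalizer_iff.2 fun z => mem_normalizer_iff.1 hy z, rfl⟩
  set x' : Y := ⟨x, hN hxV⟩
  have hord : orderOf (π x') ∣ p := by
    rw [← hx]
    exact (orderOf_map_dvd π x').trans (dvd_of_eq (Subgroup.orderOf_mk x (hN hxV)))
  by_cases hx1 : π x' = 1
  · -- then `x` centralizes `U` modulo `Φ`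
    rw [hmk] at hx1
    intro u hu
    have hxVV : x ∈ V := map_subtype_le _ hx1
    have h1 : ⁅x, u⁆ ∈ V ∧ ⁅x, u⁆ ∈ U := ⟨by
      rw [commutatorElement_def, mul_assoc, mul_assoc]
      refine mul_mem hxVV ?_
      rw [← mul_assoc]
      exact (mem_normalizer_iff.1 (hUV hu) _).1 (inv_mem hxVV), by
      rw [commutatorElement_def]
      exact mul_mem ((mem_normalizer_iff.1 hxU u).1 hu) (inv_mem hu)⟩
    have h2 : ⁅x, u⁆ = 1 := disjoint_def.1 (Subgroup.disjoint_of_coprime_natCard hcop.symm) h1.1 h1.2
    have hu1 : u = 1 := hU x (mem_zpowers x) (fun e => by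
      rw [e, orderOf_one] at hx; exact (Fact.out : p.Prime).one_lt.ne hx) u hu
      (commutatorElement_eq_one_iff_mul_comm.1 h2)
    rw [hu1]; exact one_mem _
  have hxp : orderOf (π x') = p := ((Fact.out : p.Prime).eq_one_or_self_of_dvd _ hord).resolve_left
    fun e => hx1 (orderOf_eq_one_iff.1 e)
  have key : U'.map π ≤ centralizer ((V'.map π : Subgroup _) : Set _) := by
    refine le_centralizer_of_norm (x := π x') ((map_mono ?_).trans (le_normalizer_map π))
      (hn hxV) (hn hxU) ((hcop.coprime_dvd_left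
        ((card_map_dvd _ _).trans (Coprime.card_subgroupOf hUY).dvd)).coprime_dvd_right
          ((card_map_dvd _ _).trans (Coprime.card_subgroupOf hVY).dvd)) ?_ ?_
    · exact fun y hy => mem_normalizer_iff.2 fun z =>
        mem_normalizer_iff.1 (hUV (mem_subgroupOf.1 hy)) z
    · rintro l ⟨n, rfl⟩ hl1 _ ⟨u, hu, rfl⟩ hlu
      -- the fixed point lifts
      have hxn : x ^ n ≠ 1 := fun e => hl1 (by
        show π x' ^ n = 1
        rw [← map_zpow, show x' ^ n = 1 from Subtype.ext e, map_one])
      have hL : zpowers (x' ^ n) ≤ normalizer ((U' : Subgroup Y) : Set Y) := zpowers_le.2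
        (zpow_mem (show x' ∈ normalizer ((U' : Subgroup Y) : Set Y) from
          mem_normalizer_iff.2 fun z => mem_normalizer_iff.1 hxU z) n)
      have h := Coprime.map_inf_centralizer π (A := zpowers (x' ^ n)) (K := U') hL
        (by
          rw [Coprime.card_subgroupOf hUY, Nat.card_zpowers]
          refine Nat.Coprime.coprime_dvd_left ?_ ((Fact.out : p.Prime).coprime_iff_not_dvd.2 hUp)
          rw [← hx, ← Subgroup.orderOf_mk x (hN hxV)]
          exact orderOf_dvd_of_mem_zpowers (zpow_mem (mem_zpowers _) n))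
        (Or.inl (Group.isSolvable_of_comm fun a b => mul_comm' a b))
      have hmem : π u ∈ U'.map π ⊓
          centralizer (((zpowers (x' ^ n)).map π : Subgroup _) : Set _) := by
        refine mem_inf.2 ⟨mem_map_of_mem π hu, ?_⟩
        rw [MonoidHom.map_zpowers, mem_centralizer_iff]
        rintro _ ⟨m, rfl⟩
        rw [map_zpow]
        exact (Commute.zpow_left hlu m : _)
      rw [← h] at hmem
      obtain ⟨u', ⟨hu'U, hu'c⟩, he⟩ := hmem
      have hu1 : (u' : X) = 1 := hU (x ^ n) (zpow_mem (mem_zpowers x) n) hxn u' hu'U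
        (congrArg Subtype.val (mem_centralizer_iff.1 hu'c (x' ^ n) (mem_zpowers _)))
      rw [← he, show u' = 1 from Subtype.ext hu1, map_one]
    · rintro _ ⟨v, hv, rfl⟩
      rw [hxp, ← map_mul, ← map_pow, show (v * x') ^ p = 1 from Subtype.ext (hexp v hv), map_one]
  refine Coprime.le_centralizer_of_frattini hUV (hcop.coprime_dvd_right (card_subgroup_dvd_card _))
    fun u hu v hv => ?_
  have h1 := mem_centralizer_iff.1 (key (mem_map_of_mem π (x := ⟨u, hUY hu⟩) hu)) _
    (mem_map_of_mem π (x := (⟨v, hVY hv⟩ : Y)) hv)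
  rw [← commutatorElement_eq_one_iff_mul_comm, ← map_commutatorElement, hmk] at h1
  show ⁅u, v⁆ ∈ Φ
  rw [← commutatorElement_inv]
  exact inv_mem h1

end Cfsg.Agent.TwoPCent
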