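import Cfsg.Agent.Lib.TwoPCent.Basic
import Cfsg.Agent.Lib.TwoPCent.Norm
import Cfsg.Agent.Lib.Coprime.FittingLength
import Cfsg.Agent.Lib.FittingHeight.TwoPowerArith
import Cfsg.Agent.S0205

/-!
# The automizer of the Sylow 2-subgroup

`Hyp.W_le`: `W` centralizes `P`, so `N(P)` is strongly embedded and `C(P) = W P`.
`Hyp.exists_compl`: if an odd prime other than `p` divides `|N(P)|`, then `C(P)` has a complement in
`N(P)` normalizing a nontrivial subgroup of order prime to `p`.
-/

set_option autoImplicit false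
set_option linter.style.haveILetI false
set_option linter.unusedSectionVars false

namespace Cfsg.Agent.TwoPCent

open Cfsg Subgroup
open scoped Pointwise

universe u

variable {G : Type u} [Group G] {p : ℕ} {P : Sylow 2 G}

/-- Every element of `N(P)` fixing an involution of `P` centralizes `P`. -/
def IsFree (P : Sylow 2 G) : Prop :=
  ∀ g ∈ normalizer ((P : Subgroup G) : Set G), ∀ a ∈ (P : Subgroup G), a ≠ 1 →
    g * a = a * g → g ∈ centralizer ((P : Subgroup G) : Set G)

namespace Hyp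

variable [Finite G] (h : Hyp p P)
include h

theorem mem_P_of_two {g : G} (hg : g ∈ normalizer ((P : Subgroup G) : Set G))
    (ho : ∃ k, orderOf g = 2 ^ k) : g ∈ (P : Subgroup G) := by
  haveI : Fact (Nat.Prime 2) := ⟨Nat.prime_two⟩
  set N := normalizer ((P : Subgroup G) : Set G)
  have hpg : IsPGroup 2 (zpowers (⟨g, hg⟩ : N)) := by
    obtain ⟨k, hk⟩ := ho
    exact IsPGroup.of_card (n := k) (by rw [Nat.card_zpowers, Subgroup.orderOf_mk, hk])
  obtain ⟨Q, hQ⟩ := hpg.exists_le_sylow
  haveI hn : ((P.subtype (le_normalizer (H := (P : Subgroup G))) : Sylow 2 N) :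
      Subgroup N).Normal := by
    rw [Sylow.coe_subtype]; exact normal_in_normalizer
  haveI := Sylow.unique_of_normal _ hn
  have he : Q = P.subtype le_normalizer := Subsingleton.elim _ _
  have h1 := hQ (mem_zpowers _)
  rw [he, Sylow.coe_subtype, mem_subgroupOf] at h1
  exact h1

/-- An odd element of `N(P)` outside `C(P)` fixing an involution has order `p`. -/
theorem exists_p_of_fixed {g a : G} (hg : g ∈ normalizer ((P : Subgroup G) : Set G))
    (ha : a ∈ (P : Subgroup G)) (ha1 : a ≠ 1) (hga : g * a = a * g)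
    (hgC : g ∉ centralizer ((P : Subgroup G) : Set G)) :
    orderOf (g ^ 2) = p ∧ g ^ 2 * a = a * g ^ 2 ∧
      g ^ 2 ∉ centralizer ((P : Subgroup G) : Set G) := by
  have ha2 := h.orderOf_eq_two ha ha1
  have hgX : g ∈ centralizer ({a} : Set G) := mem_centralizer_singleton_iff.2 hga
  by_cases hp : p ∣ orderOf g
  · have hdvd := h.pEl g hp
    have h2 : (g ^ 2) ^ p = 1 := by rw [← pow_mul]; exact orderOf_dvd_iff_pow_eq_one.1 hdvd
    have hne : g ^ 2 ∉ centralizer ((P : Subgroup G) : Set G) := fun hc => hgC (by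
      have hgp : g ^ p ∈ (P : Subgroup G) := h.mem_P_of_two (pow_mem hg p) (by
        have h1 : orderOf (g ^ p) ∣ 2 := orderOf_dvd_of_pow_eq_one (by
          rw [← pow_mul, mul_comm]; exact orderOf_dvd_iff_pow_eq_one.1 hdvd)
        rcases (Nat.dvd_prime Nat.prime_two).1 h1 with e | e
        · exact ⟨0, e⟩
        · exact ⟨1, e⟩)
      obtain ⟨j, hj⟩ := h.odd_p
      have : g = g ^ p * ((g ^ 2) ^ j)⁻¹ := by
        rw [← pow_mul, eq_mul_inv_iff_mul_eq, ← pow_succ', hj]
      rw [this]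
      exact mul_mem (h.P_le_centralizer hgp) (inv_mem (pow_mem hc j)))
    refine ⟨(h.prime.eq_one_or_self_of_dvd _ (orderOf_dvd_of_pow_eq_one h2)).resolve_left
      fun e => hne (by rw [orderOf_eq_one_iff.1 e]; exact one_mem _),
      (Commute.pow_left hga 2 : _), hne⟩
  · refine absurd (h.P_le_centralizer (h.mem_P_of_two hg ?_)) hgC
    refine ⟨(orderOf g).primeFactorsList.length,
      Nat.eq_prime_pow_of_unique_prime_dvd (orderOf_pos g).ne' fun {d} hd hdn => ?_⟩
    have := h.prime_dvd_cent ha2 hd (hdn.trans (Subgroup.orderOf_dvd_natCard _ hgX))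
    exact this.resolve_right fun e => hp (e ▸ hdn)

/-- An element of `N(P)` of odd prime order other than `p` fixes no involution of `P`. -/
theorem semiregular {y : G} {r : ℕ} (hr : r.Prime) (hy : orderOf y = r) (hr2 : r ≠ 2)
    (hrp : r ≠ p) {a : G} (ha : a ∈ (P : Subgroup G)) (hya : y * a = a * y) : a = 1 := by
  by_contra ha1
  have := h.prime_dvd_cent (h.orderOf_eq_two ha ha1) hr
    (hy ▸ Subgroup.orderOf_dvd_natCard _ (mem_centralizer_singleton_iff.2 hya))
  exact this.elim hr2 hrp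

theorem coprime_two_p {r : ℕ} (hr : r.Prime) (hr2 : r ≠ 2) (hrp : r ≠ p) :
    r.Coprime (2 * p) :=
  Nat.Coprime.mul_right ((Nat.coprime_primes hr Nat.prime_two).2 hr2)
    ((Nat.coprime_primes hr h.prime).2 hrp)

theorem prime_dvd_C {r : ℕ} (hr : r.Prime)
    (hd : r ∣ Nat.card (centralizer ((P : Subgroup G) : Set G))) : r = 2 ∨ r = p := by
  obtain ⟨a, ha, ha1⟩ := h.exists_mem_ne_one
  exact h.prime_dvd_cent (h.orderOf_eq_two ha ha1) hr
    (hd.trans (card_dvd_of_le (h.centralizer_P_le ha)))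

/-- The orbit of an involution under `N(P)` is everything. -/
theorem index_stab {a : G} (ha : a ∈ (P : Subgroup G)) (ha1 : a ≠ 1) :
    ((centralizer ({a} : Set G)).subgroupOf (normalizer ((P : Subgroup G) : Set G))).index =
      Nat.card (P : Subgroup G) - 1 := by
  classical
  set N := normalizer ((P : Subgroup G) : Set G)
  set S := (centralizer ({a} : Set G)).subgroupOf N
  let T := {x : (P : Subgroup G) // x ≠ 1}
  have hT : Nat.card T = Nat.card (P : Subgroup G) - 1 := by
    haveI := Fintype.ofFinite (P : Subgroup G)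
    rw [Nat.card_eq_fintype_card, Nat.card_eq_fintype_card, Fintype.card_subtype_compl,
      Fintype.card_subtype_eq]
  let f : N ⧸ S → T := Quotient.lift (s := QuotientGroup.leftRel S)
    (fun n : N => (⟨⟨(n : G) * a * (n : G)⁻¹, (mem_normalizer_iff.1 n.2 a).1 ha⟩,
      fun e => ha1 (conj_eq_one_iff.1 (congrArg Subtype.val e))⟩ : T)) fun x y hxy => by
      have h1 := mem_centralizer_singleton_iff.1 (mem_subgroupOf.1 (QuotientGroup.leftRel_apply.1 hxy))
      push_cast at h1
      refine Subtype.ext (Subtype.ext ?_)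
      show (x : G) * a * (x : G)⁻¹ = (y : G) * a * (y : G)⁻¹
      calc (x : G) * a * (x : G)⁻¹ = (x : G) * (a * ((x : G)⁻¹ * y)) * (y : G)⁻¹ := by group
        _ = (x : G) * ((x : G)⁻¹ * y * a) * (y : G)⁻¹ := by rw [h1]
        _ = (y : G) * a * (y : G)⁻¹ := by group
  have hb : Function.Bijective f := by
    constructor
    · intro u v
      induction u using QuotientGroup.induction_on with | _ x => ?_
      induction v using QuotientGroup.induction_on with | _ y => ?_
      intro e
      have e' : (x : G) * a * (x : G)⁻¹ = (y : G) * a * (y : G)⁻¹ :=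
        congrArg Subtype.val (congrArg Subtype.val e)
      refine QuotientGroup.eq.2 (mem_subgroupOf.2 (mem_centralizer_singleton_iff.2 ?_))
      push_cast
      calc (x : G)⁻¹ * y * a = (x : G)⁻¹ * ((y : G) * a * (y : G)⁻¹) * y := by group
        _ = (x : G)⁻¹ * ((x : G) * a * (x : G)⁻¹) * y := by rw [e']
        _ = a * ((x : G)⁻¹ * y) := by group
    · rintro ⟨⟨b, hb⟩, hb1⟩
      obtain ⟨n, hn, e⟩ := h.transitive ha ha1 hb fun e => hb1 (Subtype.ext e)
      exact ⟨QuotientGroup.mk ⟨n, hn⟩, Subtype.ext (Subtype.ext e)⟩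
  rw [← hT, ← Nat.card_eq_of_bijective f hb, ← index_eq_card]

theorem pred_dvd_card_N :
    Nat.card (P : Subgroup G) - 1 ∣ Nat.card (normalizer ((P : Subgroup G) : Set G)) := by
  obtain ⟨a, ha, ha1⟩ := h.exists_mem_ne_one
  exact h.index_stab ha ha1 ▸ index_dvd_card _

/-- Without other primes in `N(P)`, the automizer is free of order `p = |P| - 1`. -/
theorem free_of_no_prime (hno : ∀ r : ℕ, r.Prime → r ∣ Nat.card (normalizer ((P : Subgroup G) : Set G)) →
    r = 2 ∨ r = p) : IsFree P ∧ Nat.card (P : Subgroup G) = p + 1 := by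
  haveI : Fact (Nat.Prime 2) := ⟨Nat.prime_two⟩
  haveI := Fact.mk h.prime
  obtain ⟨k, hk⟩ := IsPGroup.iff_card.1 P.2
  have hq := h.big
  set q := Nat.card (P : Subgroup G) with hqdef
  have hpow : q - 1 = p ^ (q - 1).primeFactorsList.length := by
    refine Nat.eq_prime_pow_of_unique_prime_dvd (by omega) fun {d} hd hdn => ?_
    refine (hno d hd (hdn.trans h.pred_dvd_card_N)).resolve_left fun e => ?_
    rw [e, hk] at hdn
    rcases k with _ | k
    · simp [hk] at hq
    · rw [pow_succ] at hdn; omega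
  have hk2 : 2 ≤ k := by
    by_contra hlt
    interval_cases k <;> simp [hk] at hq
  have h1 := FittingHeight.TwoPower.eq_one_of_pow_add_one h.odd_p hk2 (by
    rw [← hpow, ← hk]; omega : p ^ (q - 1).primeFactorsList.length + 1 = 2 ^ k)
  rw [h1, pow_one] at hpow
  refine ⟨fun g hg a ha ha1 hga => ?_, by omega⟩
  by_contra hgC
  obtain ⟨hx, hxa, hxC⟩ := h.exists_p_of_fixed hg ha ha1 hga hgC
  set x := g ^ 2
  -- `x` permutes the `p` involutions of `P` and fixes one
  let L := zpowers x
  have hLP : ∀ l : L, ∀ b : (P : Subgroup G), (l : G) * b * (l : G)⁻¹ ∈ (P : Subgroup G) :=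
    fun l b => (mem_normalizer_iff.1 (zpowers_le.2 (pow_mem hg 2) l.2) b).1 b.2
  letI : MulAction L (P : Subgroup G) :=
    { smul := fun l b => ⟨(l : G) * b * (l : G)⁻¹, hLP l b⟩
      one_smul := fun b => Subtype.ext (show ((1 : L) : G) * b * ((1 : L) : G)⁻¹ = b by simp)
      mul_smul := fun l m b => Subtype.ext (show ((l * m : L) : G) * b * ((l * m : L) : G)⁻¹ =
        (l : G) * ((m : G) * b * (m : G)⁻¹) * (l : G)⁻¹ by push_cast; group) }
  have hLp : IsPGroup p L := IsPGroup.of_card (n := 1) (by rw [Nat.card_zpowers, hx, pow_one])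
  have hmod := hLp.card_modEq_card_fixedPoints (α := (P : Subgroup G))
  set F := MulAction.fixedPoints L (P : Subgroup G)
  have hFfix : ∀ b : (P : Subgroup G), b ∈ F ↔ x * (b : G) = b * x := by
    intro b
    constructor
    · intro hb
      exact mul_inv_eq_iff_eq_mul.1 (congrArg Subtype.val (hb ⟨x, mem_zpowers x⟩))
    · rintro hb ⟨_, n, rfl⟩
      refine Subtype.ext (mul_inv_eq_iff_eq_mul.2 ?_)
      exact (Commute.zpow_left hb n : _)
  have hF2 : 2 ≤ Nat.card F := by
    haveI : Nontrivial F := ⟨⟨⟨1, (hFfix 1).2 (by simp)⟩, ⟨⟨a, ha⟩, (hFfix ⟨a, ha⟩).2 hxa⟩,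
      fun e => ha1 (congrArg Subtype.val (congrArg Subtype.val e)).symm⟩⟩
    exact Finite.one_lt_card
  have hFle : Nat.card F ≤ q := Nat.card_le_card_of_injective Subtype.val Subtype.val_injective
  have hFeq : Nat.card F = q := by
    rw [← hqdef] at hmod
    have h2 : p ∣ q - Nat.card F := (Nat.modEq_iff_dvd' hFle).1 hmod.symm
    rcases Nat.eq_zero_or_pos (q - Nat.card F) with e | e
    · omega
    · have := Nat.le_of_dvd e h2; omega
  refine hxC (mem_centralizer_iff.2 fun b hb => ?_)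
  have hall : (⟨b, hb⟩ : (P : Subgroup G)) ∈ F := by
    have : F = Set.univ := Set.eq_univ_of_forall fun c => by
      by_contra hc
      have hlt : Nat.card F < q := Finite.card_subtype_lt (p := fun z => z ∈ F) hc
      omega
    rw [this]; exact Set.mem_univ _
  exact ((hFfix _).1 hall).symm

theorem exists_fpf : ∃ y ∈ normalizer ((P : Subgroup G) : Set G), ∃ r : ℕ, r.Prime ∧ r ≠ 2 ∧
    orderOf y = r ∧ ∀ a ∈ (P : Subgroup G), y * a = a * y → a = 1 := by
  by_cases hex : ∃ r : ℕ, r.Prime ∧ r ∣ Nat.card (normalizer ((P : Subgroup G) : Set G)) ∧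
      r ≠ 2 ∧ r ≠ p
  · obtain ⟨r, hr, hd, hr2, hrp⟩ := hex
    haveI := Fact.mk hr
    obtain ⟨y, hy⟩ := exists_prime_orderOf_dvd_card' r hd
    rw [← Subgroup.orderOf_coe] at hy
    exact ⟨y, y.2, r, hr, hr2, hy, fun a ha => h.semiregular hr hy hr2 hrp ha⟩
  push Not at hex
  obtain ⟨hfree, hq⟩ := h.free_of_no_prime fun r hr hd => by
    by_contra hc
    push Not at hc
    exact hc.2 (hex r hr hd hc.1)
  -- some element moves an involution
  obtain ⟨a, ha, ha1⟩ := h.exists_mem_ne_one
  obtain ⟨b, hb, hb1, hba⟩ : ∃ b ∈ (P : Subgroup G), b ≠ 1 ∧ b ≠ a := by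
    by_contra hno
    push Not at hno
    classical
    haveI := Fintype.ofFinite (P : Subgroup G)
    have h2 : Nat.card (P : Subgroup G) ≤ 2 := by
      rw [Nat.card_eq_fintype_card, ← Finset.card_univ]
      refine le_trans (Finset.card_le_card (t := {1, ⟨a, ha⟩}) fun x _ => ?_) Finset.card_le_two
      by_cases hx : (x : G) = 1
      · simp [Subtype.ext_iff, hx]
      · simp [Subtype.ext_iff, hno x x.2 hx]
    have := h.big
    omega
  obtain ⟨n, hn, hna⟩ := h.transitive ha ha1 hb hb1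
  have hnC : n ∉ centralizer ((P : Subgroup G) : Set G) := fun hc => hba (by
    rw [← hna, ← mem_centralizer_iff.1 hc a ha, mul_inv_cancel_right])
  set i := (orderOf n).factorization 2
  set m := n ^ (2 ^ i)
  have hm : Odd (orderOf m) := by
    rw [orderOf_pow, Nat.gcd_eq_right (Nat.ordProj_dvd _ 2), ← Nat.not_even_iff_odd,
      even_iff_two_dvd]
    exact Nat.not_dvd_ordCompl Nat.prime_two (orderOf_pos n).ne'
  have hmC : m ∉ centralizer ((P : Subgroup G) : Set G) := fun hc => hnC (by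
    have hco : (2 ^ i).Coprime (orderOf n / 2 ^ i) :=
      (Nat.coprime_ordCompl Nat.prime_two (orderOf_pos n).ne').pow_left i
    have h2 : n ^ (orderOf n / 2 ^ i) ∈ (P : Subgroup G) := h.mem_P_of_two (pow_mem hn _) ⟨i, by
      rw [orderOf_pow, Nat.gcd_eq_right (Nat.ordCompl_dvd _ 2),
        Nat.div_div_self (Nat.ordProj_dvd _ 2) (orderOf_pos n).ne']⟩
    have : n = m ^ Nat.gcdA (2 ^ i) (orderOf n / 2 ^ i) *
        (n ^ (orderOf n / 2 ^ i)) ^ Nat.gcdB (2 ^ i) (orderOf n / 2 ^ i) := by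
      have e := Nat.gcd_eq_gcd_ab (2 ^ i) (orderOf n / 2 ^ i)
      rw [hco] at e
      calc n = n ^ ((1 : ℕ) : ℤ) := by rw [Nat.cast_one, zpow_one]
        _ = _ := by rw [e, zpow_add, zpow_mul, zpow_mul, zpow_natCast, zpow_natCast]
    rw [this]
    exact mul_mem (zpow_mem hc _) (zpow_mem (h.P_le_centralizer h2) _))
  obtain ⟨r, hr, hrd⟩ := Nat.exists_prime_and_dvd (n := orderOf m) fun e =>
    hmC (by rw [orderOf_eq_one_iff.1 e]; exact one_mem _)
  have hrp : r = p := by
    have hr2 : r ≠ 2 := fun e => by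
      rw [e] at hrd; exact Nat.not_even_iff_odd.2 hm (even_iff_two_dvd.2 hrd)
    exact hex r hr (hrd.trans (Subgroup.orderOf_dvd_natCard _ (pow_mem hn _))) hr2
  subst hrp
  exact ⟨m, pow_mem hn _, r, hr, h.ne_two, h.orderOf_p hrd hm, fun a ha hma =>
    by_contra fun ha1 => hmC (hfree m (pow_mem hn _) a ha ha1 hma)⟩

theorem le_of_sup_pgroup {y : G} (hy : y ∈ normalizer ((P : Subgroup G) : Set G))
    (hyo : orderOf y = p) {w : G} (hw : w ∈ W P) : (w * y) ^ p = 1 := by
  haveI := Fact.mk h.prime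
  have hL : zpowers y ≤ normalizer (W P : Set G) := zpowers_le.2 (h.N_le_normalizer_W hy)
  have hpg : IsPGroup p (W P ⊔ zpowers y : Subgroup G) :=
    IsPGroup.to_sup_of_normal_left' h.W_isPGroup
      (IsPGroup.of_card (n := 1) (by rw [Nat.card_zpowers, hyo, pow_one])) hL
  obtain ⟨k, hk⟩ := IsPGroup.iff_orderOf.1 hpg
    ⟨w * y, mul_mem (mem_sup_left hw) (mem_sup_right (mem_zpowers y))⟩
  rw [Subgroup.orderOf_mk] at hk
  rcases k with _ | k
  · rw [orderOf_eq_one_iff.1 (hk.trans (pow_zero p)), one_pow]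
  · exact orderOf_dvd_iff_pow_eq_one.1 (h.orderOf_p (hk ▸ dvd_pow_self p k.succ_ne_zero)
      (hk ▸ h.odd_p.pow)).dvd

/-- `W` centralizes `P`. -/
theorem W_le : W P ≤ centralizer ((P : Subgroup G) : Set G) := by
  haveI := h.isMulComm
  haveI := Fact.mk h.prime
  obtain ⟨y, hy, r, hr, hr2, hyo, hfix⟩ := h.exists_fpf
  have hPW : (P : Subgroup G) ≤ normalizer (W P : Set G) :=
    le_normalizer.trans h.N_le_normalizer_W
  have hfpf : ∀ l ∈ zpowers y, l ≠ 1 → ∀ u ∈ (P : Subgroup G), l * u = u * l → u = 1 := by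
    intro l hl hl1 u hu hlu
    refine hfix u hu ?_
    have hgen : zpowers l = zpowers y := by
      haveI : Fact (Nat.card (zpowers y)).Prime := ⟨by rw [Nat.card_zpowers, hyo]; exact hr⟩
      refine ((zpowers l).subgroupOf (zpowers y)).eq_bot_or_eq_top_of_prime_card.elim
        (fun e => absurd (show (⟨l, hl⟩ : zpowers y) ∈ (zpowers l).subgroupOf (zpowers y) from
          mem_zpowers l) (by rw [e, mem_bot]; exact fun e' => hl1 (congrArg Subtype.val e')))
        fun e => le_antisymm (zpowers_le.2 hl) (subgroupOf_eq_top.1 e)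
    obtain ⟨n, rfl⟩ := hgen ▸ mem_zpowers y
    exact (Commute.zpow_left hlu n : _)
  suffices hle : (P : Subgroup G) ≤ centralizer (W P : Set G) from le_centralizer_iff.1 hle
  by_cases hrp : r = p
  · subst hrp
    refine le_centralizer_of_norm_pgroup (x := y) h.W_isPGroup hPW (h.N_le_normalizer_W hy) hy hyo
      (fun hd => ?_) (h.coprime_P_of_odd h.W_odd) hfpf fun v hv => h.le_of_sup_pgroup hy hyo hv
    obtain ⟨k, hk⟩ := IsPGroup.iff_card.1 P.2
    rw [hk] at hd
    exact h.ne_two ((Nat.prime_dvd_prime_iff_eq hr Nat.prime_two).1 (hr.dvd_of_dvd_pow hd))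
  · refine AbelianCent.le_centralizer_of_fpf_pgroup (L := zpowers y) h.W_isPGroup hPW
      (zpowers_le.2 (h.N_le_normalizer_W hy)) (zpowers_le.2 hy) (h.coprime_P_of_odd h.W_odd)
      (Group.isSolvable_of_comm fun a b => mul_comm' a b) ?_ ?_ hfpf ?_
    · rw [Nat.card_zpowers, hyo]
      exact (h.coprime_P_of_odd (K := zpowers y)
        (by rw [Nat.card_zpowers, hyo]; exact hr.odd_of_ne_two hr2)).symm.coprime_dvd_left
          (by rw [Nat.card_zpowers, hyo])
    · rw [Nat.card_zpowers, hyo, hr.coprime_iff_not_dvd]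
      exact fun hd => hrp (h.prime_dvd_W hr hd)
    · refine eq_bot_iff.2 fun w hw => mem_bot.2 (by_contra fun hw1 => ?_)
      have hwo : orderOf w = p := (h.prime.eq_one_or_self_of_dvd _
        (orderOf_dvd_of_pow_eq_one (h.W_pow hw.1))).resolve_left
          fun e => hw1 (orderOf_eq_one_iff.1 e)
      have := h.eq_one_of_commute hwo (y := y) (by rw [hyo]; exact h.coprime_two_p hr hr2 hrp)
        (mem_centralizer_iff.1 hw.2 y (mem_zpowers y)).symm
      rw [this, orderOf_one] at hyo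
      exact hr.one_lt.ne hyo

theorem cent_le_N {a : G} (ha : a ∈ (P : Subgroup G)) (ha1 : a ≠ 1) :
    centralizer ({a} : Set G) ≤ normalizer ((P : Subgroup G) : Set G) :=
  (h.cent_le_M ha ha1).trans (sup_le (h.W_le.trans (centralizer_le_normalizer _)) le_rfl)

theorem stronglyEmbedded_N : IsStronglyEmbedded (normalizer ((P : Subgroup G) : Set G)) := by
  have := h.stronglyEmbedded
  rwa [sup_eq_right.2 (h.W_le.trans (centralizer_le_normalizer _))] at this

theorem C_eq : centralizer ((P : Subgroup G) : Set G) = W P ⊔ (P : Subgroup G) := by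
  obtain ⟨a, ha, ha1⟩ := h.exists_mem_ne_one
  exact le_antisymm ((h.cent_le_sup ha ha1).2.trans (sup_le_sup_right (h.O_le_W ha ha1) _))
    (sup_le h.W_le h.P_le_centralizer)

theorem card_C : Nat.card (centralizer ((P : Subgroup G) : Set G)) =
    Nat.card (W P) * Nat.card (P : Subgroup G) := by
  rw [← Nat.card_prod]
  refine (Nat.card_eq_of_bijective (fun z : W P × (P : Subgroup G) =>
    (⟨(z.1 : G) * z.2, mul_mem (h.W_le z.1.2) (h.P_le_centralizer z.2.2)⟩ :
      centralizer ((P : Subgroup G) : Set G))) ⟨fun a b e => ?_, fun c => ?_⟩).symm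
  · exact mul_injective_of_disjoint h.W_disjoint_P (congrArg Subtype.val e)
  · have hc := c.2
    have hc : (c : G) ∈ W P ⊔ (P : Subgroup G) := h.C_eq ▸ c.2
    rw [← SetLike.mem_coe, coe_mul_of_left_le_normalizer_right] at hc
    · obtain ⟨w, hw, e, he, hwe⟩ := hc
      exact ⟨(⟨w, hw⟩, ⟨e, he⟩), Subtype.ext hwe⟩
    · exact h.W_le.trans (centralizer_le_normalizer _)

/-- A complement of `C(P)` in `N(P)`. -/
theorem exists_compl {r : ℕ} (hr : r.Prime)
    (hd : r ∣ Nat.card (normalizer ((P : Subgroup G) : Set G))) (hr2 : r ≠ 2) (hrp : r ≠ p) :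
    ∃ H R : Subgroup G, H ≤ normalizer ((P : Subgroup G) : Set G) ∧
      H ⊓ centralizer ((P : Subgroup G) : Set G) = ⊥ ∧
      (∀ n ∈ normalizer ((P : Subgroup G) : Set G),
        ∃ c ∈ centralizer ((P : Subgroup G) : Set G), ∃ k ∈ H, n = c * k) ∧
      R ≤ H ∧ H ≤ normalizer (R : Set G) ∧ R ≠ ⊥ ∧ ¬ p ∣ Nat.card R := by
  haveI : Fact (Nat.Prime 2) := ⟨Nat.prime_two⟩
  haveI := Fact.mk h.prime
  haveI := Fact.mk hr
  haveI := h.isMulComm
  set N := normalizer ((P : Subgroup G) : Set G) with hN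
  set C := centralizer ((P : Subgroup G) : Set G) with hC
  set C' := C.subgroupOf N with hC'
  haveI hCn : C'.Normal := by
    refine ⟨fun c hc g => mem_subgroupOf.2 (mem_centralizer_iff.2 fun v hv => ?_)⟩
    have h1 := mem_centralizer_iff.1 (mem_subgroupOf.1 hc) _ ((mem_normalizer_iff''.1 g.2 v).1 hv)
    push_cast
    calc v * ((g : G) * c * (g : G)⁻¹) = (g : G) * ((g : G)⁻¹ * v * g * c) * (g : G)⁻¹ := by group
      _ = (g : G) * (c * ((g : G)⁻¹ * v * g)) * (g : G)⁻¹ := by rw [h1]
      _ = (g : G) * c * (g : G)⁻¹ * v := by group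
  have hcardC' : Nat.card C' = Nat.card C :=
    Nat.card_congr (subgroupOfEquivOfLe (centralizer_le_normalizer _)).toEquiv
  have hodd : Odd (Nat.card (N ⧸ C')) := by
    rw [← index_eq_card, ← Nat.not_even_iff_odd, even_iff_two_dvd]
    intro h2
    refine (P.subtype (le_normalizer (H := (P : Subgroup G)))).not_dvd_index (h2.trans ?_)
    refine index_dvd_of_le ?_
    rw [Sylow.coe_subtype]
    exact fun x hx => h.P_le_centralizer hx
  haveI : Group.IsSolvable (N ⧸ C') := S0205.result hodd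
  have hrC : ¬ r ∣ Nat.card C' := fun e =>
    (h.prime_dvd_C hr (hcardC' ▸ e)).elim hr2 hrp
  haveI : Nontrivial (N ⧸ C') := Finite.one_lt_card_iff_nontrivial.1 <| by
    refine lt_of_lt_of_le hr.one_lt (Nat.le_of_dvd Nat.card_pos ?_)
    rw [← index_eq_card]
    exact (hr.dvd_mul.1 (C'.card_mul_index ▸ hd)).resolve_left hrC
  obtain ⟨s, hs, hcore⟩ := Coprime.exists_pCore_ne_bot (Q := N ⧸ C')
  haveI := Fact.mk hs
  set π := QuotientGroup.mk' C'
  set K := (pCore s (N ⧸ C')).comap π with hK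
  haveI : K.Normal := PCore.pCore_normal.comap π
  have hCK : C' ≤ K := fun c hc => by
    rw [hK, mem_comap, QuotientGroup.mk'_apply, (QuotientGroup.eq_one_iff c).2 hc]
    exact one_mem _
  obtain ⟨e, he⟩ : ∃ e, Nat.card K = Nat.card C' * s ^ e := by
    obtain ⟨e, he⟩ := PCore.exists_card_pCore (p := s) (G := N ⧸ C')
    refine ⟨e, ?_⟩
    rw [← he, hK, ← card_mul_index (C'.subgroupOf _),
      Nat.card_congr (subgroupOfEquivOfLe hCK).toEquiv]
    congr 1
    show C'.relIndex K = _
    have h0 := relIndex_ker (K := K) π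
    rw [QuotientGroup.ker_mk'] at h0
    rw [h0, hK, map_comap_eq_self_of_surjective (QuotientGroup.mk'_surjective C')]
  have hs2 : s ≠ 2 := fun h2 => by
    obtain ⟨f, hf⟩ := PCore.exists_card_pCore (p := s) (G := N ⧸ C')
    have hd' : Nat.card (pCore s (N ⧸ C')) ∣ Nat.card (N ⧸ C') := card_subgroup_dvd_card _
    rcases f with _ | f
    · exact hcore (Subgroup.eq_bot_of_card_eq _ (hf.trans (pow_zero s)))
    · rw [hf, h2] at hd'
      exact Nat.not_even_iff_odd.2 hodd
        (even_iff_two_dvd.2 ((dvd_pow_self 2 f.succ_ne_zero).trans hd'))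
  obtain ⟨Q⟩ : Nonempty (Sylow s K) := inferInstance
  set R₀ := (Q : Subgroup K).map K.subtype with hR₀
  have hfr := Sylow.normalizer_sup_eq_top Q
  rw [← hR₀] at hfr
  set R := R₀.map N.subtype with hR
  have hRN : R ≤ N := map_subtype_le _
  have hRs : IsPGroup s R := (Q.2.map _).map _
  have hNR : ∀ n : N, n ∈ normalizer ((R₀ : Subgroup N) : Set N) →
      (n : G) ∈ normalizer (R : Set G) := fun n hn =>
    le_normalizer_map N.subtype ⟨n, hn, rfl⟩
  -- `K = C' ⊔ R₀`
  have hKeq : C' ⊔ R₀ = K := by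
    refine eq_of_le_of_card_ge (sup_le hCK (map_subtype_le _)) ?_
    have h1 : Nat.card R₀ = s ^ (Nat.card K).factorization s := by
      rw [hR₀, card_map_of_injective K.subtype_injective]; exact Q.card_eq_multiplicity
    have h3 : s ^ e * (Nat.card C' * 1) ∣ Nat.card (C' ⊔ R₀ : Subgroup N) := by
      have hcs := Nat.ordProj_dvd (Nat.card C') s
      have hdiv := Nat.ordProj_mul_ordCompl_eq_self (Nat.card C') s
      rw [mul_one, ← hdiv, ← mul_assoc, ← pow_add]
      refine Nat.Coprime.mul_dvd_of_dvd_of_dvd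
        ((Nat.coprime_ordCompl hs Nat.card_pos.ne').pow_left _) ?_
        ((Nat.ordCompl_dvd _ _).trans (card_dvd_of_le le_sup_left))
      refine (dvd_of_eq ?_).trans (card_dvd_of_le (le_sup_right (a := C') (b := R₀)))
      rw [h1, he, Nat.factorization_mul Nat.card_pos.ne' (pow_ne_zero _ hs.pos.ne'),
        Finsupp.add_apply, hs.factorization_pow, Finsupp.single_eq_same, add_comm]
    rw [he, mul_comm]
    rw [mul_one] at h3
    exact Nat.le_of_dvd Nat.card_pos h3
  -- the `p`-part of the automizer has trivial core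
  have hsp : s ≠ p := by
    intro hsp
    subst hsp
    have hrK : ¬ r ∣ Nat.card K := fun hdK => by
      rw [he] at hdK
      rcases hr.dvd_mul.1 hdK with h1 | h1
      · exact hrC h1
      · exact hrp ((Nat.prime_dvd_prime_iff_eq hr hs).1 (hr.dvd_of_dvd_pow h1))
    have hrN : r ∣ Nat.card (normalizer ((R₀ : Subgroup N) : Set N)) := by
      have h1 : r ∣ Nat.card (N ⧸ K) := by
        rw [← index_eq_card]
        exact (hr.dvd_mul.1 (K.card_mul_index ▸ hd)).resolve_left hrK
      refine h1.trans (Subgroup.card_dvd_of_surjective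
        ((QuotientGroup.mk' K).comp (normalizer ((R₀ : Subgroup N) : Set N)).subtype) fun z => ?_)
      obtain ⟨n, rfl⟩ := QuotientGroup.mk'_surjective K z
      have hn := hfr ▸ mem_top n
      rw [mem_sup_of_normal_right] at hn
      obtain ⟨m, hm, k, hk, rfl⟩ := hn
      refine ⟨⟨m, hm⟩, ?_⟩
      simp [(QuotientGroup.eq_one_iff k).2 hk]
    obtain ⟨y, hy⟩ := exists_prime_orderOf_dvd_card' r hrN
    rw [← Subgroup.orderOf_coe, ← Subgroup.orderOf_coe] at hy
    set y' : G := ((y : N) : G)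
    have hy1 : y' ≠ 1 := fun e1 => by
      rw [e1, orderOf_one] at hy; exact hr.one_lt.ne hy
    have hle : R ≤ centralizer ((P : Subgroup G) : Set G) := by
      refine AbelianCent.le_centralizer_of_fpf (L := zpowers y') hRN
        (zpowers_le.2 (y : N).2) (zpowers_le.2 (hNR y y.2)) ?_ ?_ ?_
      · exact (h.coprime_P_of_odd (K := R) (by
          obtain ⟨k, hk⟩ := hRs.exists_card_eq
          rw [hk]; exact h.odd_p.pow)).symm
      · intro l hl hl1 u hu hlu
        by_contra hu1
        obtain ⟨k, hk⟩ := IsPGroup.iff_orderOf.1 hRs ⟨u, hu⟩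
        rw [Subgroup.orderOf_mk] at hk
        have hup : orderOf u = s := by
          rcases k with _ | k
          · exact absurd (orderOf_eq_one_iff.1 (hk.trans (pow_zero s))) hu1
          · exact h.orderOf_p (hk ▸ dvd_pow_self s k.succ_ne_zero) (hk ▸ h.odd_p.pow)
        refine hl1 (h.eq_one_of_commute hup ?_ (Commute.symm hlu))
        have hlo : orderOf l = r := (hr.eq_one_or_self_of_dvd _
          (hy ▸ orderOf_dvd_of_mem_zpowers hl)).resolve_left fun e1 =>
            hl1 (orderOf_eq_one_iff.1 e1)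
        rw [hlo]; exact h.coprime_two_p hr hr2 hrp
      · exact eq_bot_iff.2 fun a ha => mem_bot.2 (h.semiregular hr hy hr2 hrp ha.1
          (mem_centralizer_iff.1 ha.2 y' (mem_zpowers y')))
    apply hcore
    rw [← map_comap_eq_self_of_surjective (QuotientGroup.mk'_surjective C') (pCore s (N ⧸ C')),
      ← hK, ← hKeq, Subgroup.map_eq_bot_iff, QuotientGroup.ker_mk']
    exact sup_le le_rfl fun x hx => mem_subgroupOf.2 (hle ⟨x, hx, rfl⟩)
  have hsC : ¬ s ∣ Nat.card C := fun e => (h.prime_dvd_C hs e).elim hs2 hsp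
  have hRC : ∀ z ∈ R, z ∈ C → z = 1 := fun z hz hzC => by
    obtain ⟨k, hk⟩ := IsPGroup.iff_orderOf.1 hRs ⟨z, hz⟩
    rw [Subgroup.orderOf_mk] at hk
    rcases k with _ | k
    · exact orderOf_eq_one_iff.1 (hk.trans (pow_zero s))
    · exact absurd ((hk ▸ dvd_pow_self s k.succ_ne_zero).trans
        (Subgroup.orderOf_dvd_natCard _ hzC)) hsC
  have hRne : R ≠ ⊥ := fun e1 => hcore (by
    rw [← map_comap_eq_self_of_surjective (QuotientGroup.mk'_surjective C') (pCore s (N ⧸ C')),
      ← hK, ← hKeq, Subgroup.map_eq_bot_iff, QuotientGroup.ker_mk']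
    rw [hR, map_eq_bot_iff_of_injective _ N.subtype_injective] at e1
    rw [e1, sup_bot_eq])
  refine ⟨N ⊓ normalizer (R : Set G), R, inf_le_left, ?_, ?_,
    le_inf hRN le_normalizer, inf_le_right, hRne, ?_⟩
  · refine eq_bot_iff.2 fun c hc => mem_bot.2 ?_
    obtain ⟨hcNR, hcC⟩ := mem_inf.1 hc
    obtain ⟨hcN, hcR⟩ := mem_inf.1 hcNR
    obtain ⟨⟨z, hz⟩, hzo⟩ := exists_prime_orderOf_dvd_card' (G := R) s (by
      obtain ⟨k, hk⟩ := hRs.exists_card_eq
      rcases k with _ | k
      · exact absurd (Subgroup.eq_bot_of_card_eq _ (hk.trans (pow_zero s))) hRne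
      · exact hk ▸ dvd_pow_self s k.succ_ne_zero)
    rw [Subgroup.orderOf_mk] at hzo
    have hcz : Commute c z := by
      have h1 : c * z * c⁻¹ * z⁻¹ ∈ R := mul_mem ((mem_normalizer_iff.1 hcR z).1 hz) (inv_mem hz)
      have h2 : c * z * c⁻¹ * z⁻¹ ∈ C := by
        rw [show c * z * c⁻¹ * z⁻¹ = c * (z * c⁻¹ * z⁻¹) by group]
        exact mul_mem hcC (hCn.conj_mem ⟨c⁻¹, inv_mem hcN⟩ (inv_mem hcC) ⟨z, hRN hz⟩)
      have := hRC _ h1 h2
      rwa [mul_inv_eq_one, mul_inv_eq_iff_eq_mul] at this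
    -- both parts of `c` vanish
    have hcp : c ^ p = 1 := by
      have hP : c ^ p ∈ (P : Subgroup G) := by
        have hw : c ∈ W P ⊔ (P : Subgroup G) := h.C_eq ▸ hcC
        rw [← SetLike.mem_coe, coe_mul_of_left_le_normalizer_right _ _
          (h.W_le.trans (centralizer_le_normalizer _))] at hw
        obtain ⟨w, hw, v, hv, rfl⟩ := hw
        show (w * v) ^ p ∈ _
        rw [(show Commute w v from (mem_centralizer_iff.1 (h.W_le hw) v hv).symm).mul_pow,
          h.W_pow hw, one_mul]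
        exact pow_mem hv p
      exact h.semiregular hs hzo hs2 hsp hP (hcz.symm.pow_right p)
    by_contra hc1
    have hco : orderOf c = p := (h.prime.eq_one_or_self_of_dvd _
      (orderOf_dvd_of_pow_eq_one hcp)).resolve_left fun e1 => hc1 (orderOf_eq_one_iff.1 e1)
    have := h.eq_one_of_commute hco (y := z) (by rw [hzo]; exact h.coprime_two_p hs hs2 hsp) hcz
    rw [this, orderOf_one] at hzo
    exact hs.one_lt.ne hzo
  · intro n hn
    have hn' := hfr ▸ mem_top (⟨n, hn⟩ : N)
    rw [← hKeq, ← sup_assoc, sup_comm (normalizer _) C', sup_assoc,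
      sup_eq_left.2 (le_normalizer : R₀ ≤ _), mem_sup_of_normal_left] at hn'
    obtain ⟨c, hc, m, hm, e1⟩ := hn'
    exact ⟨c, mem_subgroupOf.1 hc, m, ⟨m.2, hNR m hm⟩, (congrArg Subtype.val e1).symm⟩
  · obtain ⟨k, hk⟩ := hRs.exists_card_eq
    rw [hk]
    exact fun e1 => hsp ((Nat.prime_dvd_prime_iff_eq h.prime hs).1 (h.prime.dvd_of_dvd_pow e1)).symm

end Hyp

end Cfsg.Agent.TwoPCent
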