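import Cfsg.Agent.S0223
import Cfsg.Agent.S1279
import Cfsg.Agent.Lib.SSFT.HasSFT
import Cfsg.Agent.Lib.PCore.HallHigman
import Cfsg.Agent.Lib.CharInt.Burnside
import Cfsg.Agent.Lib.Coprime.Sylow
import Cfsg.Agent.Lib.Coprime.Generation
import Cfsg.Agent.Lib.Involution.StrongEmb
import Cfsg.Agent.Lib.Invol.Basic

/-!
# Elementary abelian Sylow 2-subgroups and involution centralizers of exponent `2p`

`Hyp p P`: a simple group with an elementary abelian Sylow 2-subgroup `P` of order at least 8 in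
which odd elements centralizing an involution have order dividing the odd prime `p`, elements of
order divisible by `p` have order dividing `2p`, and some involution commutes with an element of
order `p`.  Here: centralizers of involutions are solvable, the signalizer functor theorem gives a
`p`-group `W` of exponent `p`, and `W N(P)` is strongly embedded with all involutions of `P`
conjugate under `N(P)`.
-/

set_option autoImplicit false
set_option linter.style.haveILetI false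
set_option linter.unusedSectionVars false

namespace Cfsg.Agent.TwoPCent

open Cfsg Subgroup
open scoped Pointwise

universe u

variable {G : Type u} [Group G]

/-- The configuration to be excluded. -/
structure Hyp (p : ℕ) (P : Sylow 2 G) : Prop where
  simple : IsSimpleGroup G
  prime : p.Prime
  ne_two : p ≠ 2
  sq : ∀ x ∈ (P : Subgroup G), x * x = 1
  big : 8 ≤ Nat.card (P : Subgroup G)
  oddCent : ∀ t x : G, orderOf t = 2 → Commute x t → Odd (orderOf x) → x ^ p = 1
  pEl : ∀ x : G, p ∣ orderOf x → orderOf x ∣ 2 * p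
  occurs : ∃ t x : G, orderOf t = 2 ∧ Commute x t ∧ orderOf x = p

/-- The core of the centralizer of `a`. -/
abbrev O (a : G) : Subgroup G := centralizerPPrimeCore 2 a

/-- The subgroup generated by the cores. -/
noncomputable def W (P : Sylow 2 G) : Subgroup G :=
  ⨆ a : {a : G // a ∈ (P : Subgroup G) ∧ a ≠ 1}, O (a : G)

variable {p : ℕ} {P : Sylow 2 G}

namespace Hyp

variable (h : Hyp p P)
include h

theorem two_lt : 2 < p := lt_of_le_of_ne h.prime.two_le (Ne.symm h.ne_two)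

theorem odd_p : Odd p := h.prime.odd_of_ne_two h.ne_two

theorem comm {x y : G} (hx : x ∈ (P : Subgroup G)) (hy : y ∈ (P : Subgroup G)) :
    x * y = y * x := by
  have h' := h.sq _ ((P : Subgroup G).mul_mem hx hy)
  calc x * y = (x * y) * ((y * x) * (y * x)) := by
        rw [h.sq _ ((P : Subgroup G).mul_mem hy hx), mul_one]
    _ = x * (y * y) * x * (y * x) := by group
    _ = y * x := by rw [h.sq y hy, mul_one, h.sq x hx, one_mul]

theorem elem : IsElementaryAbelian 2 (P : Subgroup G) :=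
  ⟨⟨⟨fun a b => Subtype.ext (h.comm a.2 b.2)⟩⟩, fun x hx => by rw [pow_two, h.sq x hx]⟩

theorem isMulComm : IsMulCommutative (P : Subgroup G) :=
  ⟨⟨fun a b => Subtype.ext (h.comm a.2 b.2)⟩⟩

theorem orderOf_eq_two {a : G} (ha : a ∈ (P : Subgroup G)) (ha1 : a ≠ 1) : orderOf a = 2 :=
  orderOf_eq_prime (by rw [pow_two]; exact h.sq a ha) ha1

theorem P_le_centralizer : (P : Subgroup G) ≤ centralizer ((P : Subgroup G) : Set G) :=
  fun _ hx => mem_centralizer_iff.2 fun _ hy => h.comm hy hx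

theorem le_cent {a : G} (ha : a ∈ (P : Subgroup G)) :
    (P : Subgroup G) ≤ centralizer ({a} : Set G) :=
  fun _ hx => mem_centralizer_singleton_iff.2 (h.comm hx ha)

theorem exists_mem_ne_one : ∃ a ∈ (P : Subgroup G), a ≠ 1 := by
  by_contra hno
  push Not at hno
  have := h.big
  rw [(eq_bot_iff_forall _).2 hno, card_bot] at this
  omega

theorem centralizer_P_le {a : G} (ha : a ∈ (P : Subgroup G)) :
    centralizer ((P : Subgroup G) : Set G) ≤ centralizer ({a} : Set G) :=
  fun _ hc => mem_centralizer_singleton_iff.2 (mem_centralizer_iff.1 hc a ha).symm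

/-- An element of order `p` commutes with no nontrivial element of order prime to `2p`. -/
theorem eq_one_of_commute {x y : G} (hx : orderOf x = p) (hy : (orderOf y).Coprime (2 * p))
    (hxy : Commute x y) : y = 1 := by
  have hyp : p.Coprime (orderOf y) := (hy.coprime_dvd_right (dvd_mul_left p 2)).symm
  have ho : orderOf (x * y) = p * orderOf y := by
    rw [← hx]; exact hxy.orderOf_mul_eq_mul_orderOf_of_coprime (hx.symm ▸ hyp)
  have h1 : orderOf (x * y) ∣ 2 * p := h.pEl _ (ho ▸ dvd_mul_right p _)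
  rw [ho, mul_comm 2 p] at h1
  exact orderOf_eq_one_iff.1 (Nat.eq_one_of_dvd_coprimes hy dvd_rfl
    ((Nat.dvd_of_mul_dvd_mul_left h.prime.pos h1).trans (dvd_mul_right 2 p)))

variable [Finite G]

theorem orderOf_p {x : G} (hx : p ∣ orderOf x) (ho : Odd (orderOf x)) : orderOf x = p :=
  Nat.dvd_antisymm (Nat.Coprime.dvd_of_dvd_mul_left (Nat.coprime_two_right.2 ho) (h.pEl x hx)) hx

theorem prime_dvd_cent {t : G} (ht : orderOf t = 2) {r : ℕ} (hr : r.Prime)
    (hd : r ∣ Nat.card (centralizer ({t} : Set G))) : r = 2 ∨ r = p := by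
  refine or_iff_not_imp_left.2 fun hr2 => ?_
  haveI := Fact.mk hr
  obtain ⟨x, hx⟩ := exists_prime_orderOf_dvd_card' r hd
  rw [← Subgroup.orderOf_coe] at hx
  have hp := h.oddCent t x ht (mem_centralizer_singleton_iff.1 x.2)
    (hx ▸ hr.odd_of_ne_two hr2)
  exact (Nat.prime_dvd_prime_iff_eq hr h.prime).1 (hx ▸ orderOf_dvd_of_pow_eq_one hp)

theorem solvable_cent {t : G} (ht : orderOf t = 2) :
    Group.IsSolvable (centralizer ({t} : Set G)) := by
  set n := Nat.card (centralizer ({t} : Set G))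
  refine CharInt.isSolvable_of_card_eq (a := n.factorization 2) (b := n.factorization p)
    Nat.prime_two h.prime ?_
  have hn : n ≠ 0 := Nat.card_pos.ne'
  conv_lhs => rw [show Nat.card (centralizer ({t} : Set G)) = n from rfl,
    ← Nat.prod_factorization_pow_eq_self hn]
  rw [Finsupp.prod, Nat.support_factorization]
  rw [Finset.prod_subset (s₂ := {2, p}) (fun r hr => ?_) (fun r _ hr => ?_),
    Finset.prod_pair (Ne.symm h.ne_two)]
  · rcases h.prime_dvd_cent ht (Nat.prime_of_mem_primeFactors hr) (Nat.dvd_of_mem_primeFactors hr)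
      with e | e <;> simp [e]
  · rw [← Nat.support_factorization, Finsupp.notMem_support_iff] at hr
    rw [hr, pow_zero]

theorem le_sup_of_solvable {X : Subgroup G} (hPX : (P : Subgroup G) ≤ X) [Group.IsSolvable X] :
    X ≤ (pPrimeCore 2 X).map X.subtype ⊔ normalizer ((P : Subgroup G) : Set G) ∧
      X ⊓ centralizer ((P : Subgroup G) : Set G) ≤
        (pPrimeCore 2 X).map X.subtype ⊔ (P : Subgroup G) := by
  haveI : Fact (Nat.Prime 2) := ⟨Nat.prime_two⟩
  set T := P.subtype hPX with hT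
  have hTcoe : (T : Subgroup X) = (P : Subgroup G).subgroupOf X := Sylow.coe_subtype _ _
  have hTmap : (T : Subgroup X).map X.subtype = (P : Subgroup G) := by
    rw [hTcoe, subgroupOf_map_subtype, inf_eq_left.2 hPX]
  have hT'coe : ∀ q : Sylow 2 (X ⧸ pPrimeCore 2 X),
      q = T.mapSurjective (QuotientGroup.mk'_surjective _) →
      (q : Subgroup (X ⧸ pPrimeCore 2 X)) =
        ((P : Subgroup G).subgroupOf X).map (QuotientGroup.mk' (pPrimeCore 2 X)) := by
    rintro q rfl
    rw [Sylow.coe_mapSurjective, hTcoe]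
  set Y := pPrimeCore 2 X
  set π := QuotientGroup.mk' Y
  set T' := T.mapSurjective (QuotientGroup.mk'_surjective Y)
  haveI : Group.IsSolvable (X ⧸ Y) := inferInstance
  have hHH := PCore.centralizer_pCore_le_of_isSolvable (p := 2) (G := X ⧸ Y)
    PCore.pPrimeCore_quotient_self_eq_bot
  have hTc : (T' : Subgroup (X ⧸ Y)) ≤ centralizer ((T' : Subgroup (X ⧸ Y)) : Set (X ⧸ Y)) := by
    rw [hT'coe T' rfl]
    rintro _ ⟨x, hx, rfl⟩
    refine mem_centralizer_iff.2 ?_
    rintro _ ⟨y, hy, rfl⟩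
    rw [← map_mul, ← map_mul]
    exact congrArg _ (Subtype.ext (h.comm hy hx))
  have hcore : pCore 2 (X ⧸ Y) = T' := le_antisymm (PCore.pCore_le_sylow T')
    ((hTc.trans (centralizer_le (PCore.pCore_le_sylow T'))).trans hHH)
  constructor
  · haveI hN : ((T' : Subgroup (X ⧸ Y)).comap π).Normal := (hcore ▸ PCore.pCore_normal).comap π
    set K := (T' : Subgroup (X ⧸ Y)).comap π
    have hK : K = Y ⊔ (T : Subgroup X) := by
      show (T' : Subgroup (X ⧸ Y)).comap π = _
      rw [Sylow.coe_mapSurjective, comap_map_eq, QuotientGroup.ker_mk', sup_comm]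
    have hTK : (T : Subgroup X) ≤ K := hK ▸ le_sup_right
    have hf := Sylow.normalizer_sup_eq_top (T.subtype hTK)
    rw [Sylow.coe_subtype, subgroupOf_map_subtype, inf_eq_left.2 hTK] at hf
    intro x hx
    have hmem : (⟨x, hx⟩ : X) ∈ normalizer ((T : Subgroup X) : Set X) ⊔ K := hf ▸ mem_top _
    rw [hK, ← sup_assoc, sup_comm (normalizer _) Y, sup_assoc,
      sup_eq_left.2 (le_normalizer : (T : Subgroup X) ≤ _)] at hmem
    have h2 := mem_map_of_mem X.subtype hmem
    rw [Subgroup.map_sup] at h2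
    have hle : (normalizer ((T : Subgroup X) : Set X)).map X.subtype ≤
        normalizer ((P : Subgroup G) : Set G) := by
      rw [← hTmap]; exact le_normalizer_map _
    exact SetLike.le_def.1 (sup_le_sup_left hle _) h2
  · intro c hc
    obtain ⟨hcX, hc⟩ := mem_inf.1 hc
    have hc' : π ⟨c, hcX⟩ ∈ centralizer ((T' : Subgroup (X ⧸ Y)) : Set (X ⧸ Y)) := by
      rw [hT'coe T' rfl]
      refine mem_centralizer_iff.2 ?_
      rintro _ ⟨y, hy, rfl⟩
      rw [← map_mul, ← map_mul]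
      exact congrArg _ (Subtype.ext (mem_centralizer_iff.1 hc _ hy))
    have hc'' := (centralizer_le (hcore.le) ).trans hHH hc'
    rw [hcore, Sylow.coe_mapSurjective, ← mem_comap, comap_map_eq, QuotientGroup.ker_mk'] at hc''
    have h2 := mem_map_of_mem X.subtype hc''
    rw [Subgroup.map_sup, hTmap, sup_comm] at h2
    exact h2

theorem cent_le_sup {a : G} (ha : a ∈ (P : Subgroup G)) (ha1 : a ≠ 1) :
    centralizer ({a} : Set G) ≤ O a ⊔ normalizer ((P : Subgroup G) : Set G) ∧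
      centralizer ((P : Subgroup G) : Set G) ≤ O a ⊔ (P : Subgroup G) := by
  haveI := h.solvable_cent (h.orderOf_eq_two ha ha1)
  obtain ⟨h1, h2⟩ := h.le_sup_of_solvable (h.le_cent ha)
  exact ⟨h1, (le_inf (h.centralizer_P_le ha) le_rfl).trans h2⟩

theorem O_odd (a : G) : Odd (Nat.card (O a)) := by
  haveI : Fact (Nat.Prime 2) := ⟨Nat.prime_two⟩
  rw [show Nat.card (O a) = Nat.card (pPrimeCore 2 (centralizer ({a} : Set G))) from
    card_map_of_injective (subtype_injective _)]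
  exact Nat.coprime_two_right.1 PCore.coprime_card_pPrimeCore

theorem sft : ¬ 2 ∣ Nat.card (W P) ∧
    ∀ a ∈ (P : Subgroup G), a ≠ 1 → W P ⊓ centralizer {a} = O a := by
  haveI : Fact (Nat.Prime 2) := ⟨Nat.prime_two⟩
  have hθ := S1279.result 2 (P : Subgroup G) h.elem (le_trans (by norm_num) h.big)
    fun a ha ha1 => h.solvable_cent (h.orderOf_eq_two ha ha1)
  exact SSFT.hasSFT G (P : Subgroup G) (fun a ha b hb => h.comm ha hb) h.elem.2
    (le_trans (by norm_num) h.big) (fun a => centralizerPPrimeCore 2 a)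
    hθ.1.1 hθ.1.2.1 hθ.1.2.2.1 hθ.2 hθ.1.2.2.2

theorem W_odd : Odd (Nat.card (W P)) :=
  Nat.not_even_iff_odd.1 fun he => h.sft.1 (even_iff_two_dvd.1 he)

theorem W_inf {a : G} (ha : a ∈ (P : Subgroup G)) (ha1 : a ≠ 1) :
    W P ⊓ centralizer {a} = O a := h.sft.2 a ha ha1

theorem O_le_W {a : G} (ha : a ∈ (P : Subgroup G)) (ha1 : a ≠ 1) : O a ≤ W P :=
  le_iSup (fun b : {a : G // a ∈ (P : Subgroup G) ∧ a ≠ 1} => O (b : G)) ⟨a, ha, ha1⟩

theorem N_le_normalizer_W :
    normalizer ((P : Subgroup G) : Set G) ≤ normalizer (W P : Set G) := by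
  have key : ∀ n ∈ normalizer ((P : Subgroup G) : Set G), ∀ w ∈ W P, n * w * n⁻¹ ∈ W P := by
    intro n hn w hw
    have h1 : (W P).map (MulAut.conj n).toMonoidHom ≤ W P := by
      rw [W, Subgroup.map_iSup]
      refine iSup_le fun b => le_trans (Signalizer.map_centralizerPPrimeCore (b : G) n) ?_
      exact le_iSup (fun c : {c : G // c ∈ (P : Subgroup G) ∧ c ≠ 1} => O (c : G))
        ⟨n * b * n⁻¹, (mem_normalizer_iff.1 hn b).1 b.2.1,
          fun hb => b.2.2 (conj_eq_one_iff.1 hb)⟩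
    exact h1 ⟨w, hw, rfl⟩
  exact fun n hn => mem_normalizer_iff.2 fun w =>
    ⟨key n hn w, fun hw => by simpa [mul_assoc] using key n⁻¹ (inv_mem hn) _ hw⟩

theorem W_disjoint_P : Disjoint (W P) (P : Subgroup G) := disjoint_def.2 fun {x} hx hxP => by
  by_contra hx1
  have h' : Odd (orderOf x) := h.W_odd.of_dvd_nat ((W P).orderOf_dvd_natCard hx)
  rw [h.orderOf_eq_two hxP hx1] at h'
  exact absurd h' (by decide)

theorem coprime_P_of_odd {K : Subgroup G} (hK : Odd (Nat.card K)) :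
    (Nat.card (P : Subgroup G)).Coprime (Nat.card K) := by
  haveI : Fact (Nat.Prime 2) := ⟨Nat.prime_two⟩
  obtain ⟨k, hk⟩ := IsPGroup.iff_card.1 P.2
  rw [hk]
  exact (Nat.coprime_two_left.2 hK).pow_left k

theorem prime_dvd_W {r : ℕ} (hr : r.Prime) (hd : r ∣ Nat.card (W P)) : r = p := by
  haveI := Fact.mk hr
  haveI := h.isMulComm
  have hPW : (P : Subgroup G) ≤ normalizer (W P : Set G) := le_normalizer.trans h.N_le_normalizer_W
  obtain ⟨Q, hQ⟩ := Coprime.exists_invariant_sylow hPW (h.coprime_P_of_odd h.W_odd)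
    (Or.inl (Group.isSolvable_of_comm fun x y => mul_comm' x y)) r
  set Q' := (Q : Subgroup (W P)).map (W P).subtype
  have hQ'W : Q' ≤ W P := map_subtype_le _
  have hnc : ¬ IsCyclic (P : Subgroup G) := fun hc => by
    obtain ⟨g, hg⟩ := hc.exists_generator
    have h1 : Nat.card (P : Subgroup G) ≤ 2 := by
      rw [← Nat.card_congr (Equiv.subtypeUnivEquiv hg), Nat.card_zpowers]
      exact Nat.le_of_dvd two_pos (orderOf_dvd_of_pow_eq_one (Subtype.ext (by
        rw [pow_two]; exact h.sq g g.2)))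
    have := h.big
    omega
  have hcop := h.coprime_P_of_odd (K := Q')
    (h.W_odd.of_dvd_nat (card_dvd_of_le hQ'W))
  have hne : Q' ≠ ⊥ := fun e => by
    rw [map_eq_bot_iff_of_injective _ (W P).subtype_injective] at e
    exact Q.ne_bot_of_dvd_card hd e
  obtain ⟨a, ⟨ha, ha1⟩, x, hxQ, hx1⟩ : ∃ a ∈ {a : G | a ∈ (P : Subgroup G) ∧ a ≠ 1},
      ∃ x ∈ Q' ⊓ centralizer {a}, x ≠ 1 := by
    by_contra hno
    push Not at hno
    apply hne
    rw [← Coprime.iSup_centralizer_eq hnc hQ hcop, eq_bot_iff]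
    exact iSup₂_le fun a ha x hx => mem_bot.2 (hno a ha x hx)
  obtain ⟨k, hk⟩ := IsPGroup.iff_orderOf.1 (Q.2.map (W P).subtype) ⟨x, hxQ.1⟩
  rw [Subgroup.orderOf_mk] at hk
  have ho : Odd (orderOf x) := h.W_odd.of_dvd_nat ((W P).orderOf_dvd_natCard (hQ'W hxQ.1))
  have h1 := orderOf_dvd_of_pow_eq_one (h.oddCent a x (h.orderOf_eq_two ha ha1)
    (mem_centralizer_singleton_iff.1 hxQ.2) ho)
  rcases k with _ | k
  · exact absurd (orderOf_eq_one_iff.1 (hk.trans (pow_zero r))) hx1
  · exact (Nat.prime_dvd_prime_iff_eq hr h.prime).1 ((hk ▸ dvd_pow_self r k.succ_ne_zero).trans h1)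

theorem W_isPGroup : IsPGroup p (W P) :=
  IsPGroup.of_card
    (Nat.eq_prime_pow_of_unique_prime_dvd Nat.card_pos.ne' fun hd hdn => h.prime_dvd_W hd hdn)

theorem W_pow {x : G} (hx : x ∈ W P) : x ^ p = 1 := by
  by_cases h1 : x = 1
  · rw [h1, one_pow]
  haveI := Fact.mk h.prime
  obtain ⟨k, hk⟩ := IsPGroup.iff_orderOf.1 h.W_isPGroup ⟨x, hx⟩
  rw [Subgroup.orderOf_mk] at hk
  rcases k with _ | k
  · exact absurd (orderOf_eq_one_iff.1 (hk.trans (pow_zero p))) h1
  · refine orderOf_dvd_iff_pow_eq_one.1 (h.orderOf_p (hk ▸ dvd_pow_self p k.succ_ne_zero) ?_).dvd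
    exact h.W_odd.of_dvd_nat ((W P).orderOf_dvd_natCard hx)

/-- The strongly embedded subgroup. -/
theorem sup_ne_top : W P ⊔ normalizer ((P : Subgroup G) : Set G) ≠ ⊤ := by
  haveI := h.simple
  intro htop
  have hn : (W P).Normal := normalizer_eq_top_iff.1 (top_le_iff.1 (htop ▸
    sup_le le_normalizer h.N_le_normalizer_W))
  have hW : W P = ⊥ := hn.eq_bot_or_eq_top.resolve_right fun e => by
    obtain ⟨a, ha, ha1⟩ := h.exists_mem_ne_one
    exact ha1 (disjoint_def.1 h.W_disjoint_P (e ▸ mem_top a) ha)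
  rw [hW, bot_sup_eq, normalizer_eq_top_iff] at htop
  obtain ⟨a, ha, ha1⟩ := h.exists_mem_ne_one
  rcases htop.eq_bot_or_eq_top with e | e
  · rw [e, mem_bot] at ha; exact ha1 ha
  · obtain ⟨t, x, -, -, hx⟩ := h.occurs
    have hx2 := orderOf_dvd_of_pow_eq_one (x := x) (n := 2) (by
      rw [pow_two]; exact h.sq x (e ▸ mem_top x))
    rw [hx] at hx2
    exact h.ne_two ((Nat.prime_dvd_prime_iff_eq h.prime Nat.prime_two).1 hx2)

theorem cent_le_M {a : G} (ha : a ∈ (P : Subgroup G)) (ha1 : a ≠ 1) :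
    centralizer ({a} : Set G) ≤ W P ⊔ normalizer ((P : Subgroup G) : Set G) :=
  (h.cent_le_sup ha ha1).1.trans (sup_le_sup_right (h.O_le_W ha ha1) _)

theorem stronglyEmbedded :
    IsStronglyEmbedded (W P ⊔ normalizer ((P : Subgroup G) : Set G)) := by
  haveI : Fact (Nat.Prime 2) := ⟨Nat.prime_two⟩
  set M := W P ⊔ normalizer ((P : Subgroup G) : Set G)
  have hPM : (P : Subgroup G) ≤ M := le_normalizer.trans le_sup_right
  obtain ⟨a₀, ha₀, ha₀1⟩ := h.exists_mem_ne_one
  have hev : Even (Nat.card M) := even_iff_two_dvd.2 (h.orderOf_eq_two ha₀ ha₀1 ▸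
    M.orderOf_dvd_natCard (hPM ha₀))
  have hconj : ∀ s ∈ M, orderOf s = 2 → ∃ m ∈ M, m * s * m⁻¹ ∈ (P : Subgroup G) := by
    intro s hs hs2
    have hpg : IsPGroup 2 (zpowers (⟨s, hs⟩ : M)) := IsPGroup.of_card (n := 1) (by
      rw [Nat.card_zpowers, Subgroup.orderOf_mk, hs2, pow_one])
    obtain ⟨Q, hQ⟩ := hpg.exists_le_sylow
    obtain ⟨m, hm⟩ := MulAction.exists_smul_eq M Q (P.subtype hPM)
    refine ⟨m, m.2, ?_⟩
    have h1 : (MulAut.conj m) (⟨s, hs⟩ : M) ∈ ((m • Q : Sylow 2 M) : Subgroup M) :=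
      ⟨⟨s, hs⟩, hQ (mem_zpowers _), rfl⟩
    rw [hm] at h1
    exact h1
  rw [S0223.result M h.sup_ne_top hev]
  constructor
  · intro t ht ht2 c hc
    obtain ⟨m, hm, hmt⟩ := hconj t ht ht2
    have hmt1 : m * t * m⁻¹ ≠ 1 := fun e => by
      rw [conj_eq_one_iff.1 e, orderOf_one] at ht2
      exact absurd ht2 (by norm_num)
    have hc' : m * c * m⁻¹ ∈ centralizer ({m * t * m⁻¹} : Set G) := by
      rw [mem_centralizer_singleton_iff] at hc ⊢
      calc m * c * m⁻¹ * (m * t * m⁻¹) = m * (c * t) * m⁻¹ := by group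
        _ = m * (t * c) * m⁻¹ := by rw [hc]
        _ = m * t * m⁻¹ * (m * c * m⁻¹) := by group
    have := mul_mem (mul_mem (inv_mem hm) (h.cent_le_M hmt hmt1 hc')) hm
    simpa [mul_assoc] using this
  · intro t ht s hs ht2 hs2 hts
    obtain ⟨m, hm, hmt⟩ := hconj t ht ht2
    obtain ⟨n, hn, hns⟩ := hconj s hs hs2
    obtain ⟨g, hg⟩ := isConj_iff.1 hts
    haveI := h.isMulComm
    obtain ⟨w, hw, he⟩ := Sylow.conj_eq_normalizer_conj_of_mem P (m * t * m⁻¹)
      (m * g⁻¹ * n⁻¹) hmt (by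
        rw [show (m * g⁻¹ * n⁻¹)⁻¹ * (m * t * m⁻¹) * (m * g⁻¹ * n⁻¹) =
          n * (g * t * g⁻¹) * n⁻¹ by group, hg]
        exact hns)
    refine ⟨n⁻¹ * w⁻¹ * m, mul_mem (mul_mem (inv_mem hn) (inv_mem (mem_sup_right hw))) hm, ?_⟩
    rw [show n⁻¹ * w⁻¹ * m * t * (n⁻¹ * w⁻¹ * m)⁻¹ =
      n⁻¹ * (w⁻¹ * (m * t * m⁻¹) * w) * n by group, ← he, ← hg]
    group

/-- All involutions of `P` are conjugate under `N(P)`. -/
theorem transitive {a b : G} (ha : a ∈ (P : Subgroup G)) (ha1 : a ≠ 1)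
    (hb : b ∈ (P : Subgroup G)) (hb1 : b ≠ 1) :
    ∃ n ∈ normalizer ((P : Subgroup G) : Set G), n * a * n⁻¹ = b := by
  have hSE := h.stronglyEmbedded
  obtain ⟨g, hg⟩ := isConj_iff.1 (Involution.StrongEmb.isConj_involutions hSE
    (h.orderOf_eq_two ha ha1) (h.orderOf_eq_two hb hb1))
  haveI := h.isMulComm
  obtain ⟨n, hn, he⟩ := Sylow.conj_eq_normalizer_conj_of_mem P a g⁻¹ ha (by
    rw [inv_inv, hg]; exact hb)
  exact ⟨n⁻¹, inv_mem hn, by rw [inv_inv, ← he, inv_inv, hg]⟩

end Hyp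

end Cfsg.Agent.TwoPCent
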