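import Cfsg.Agent.Lib.TwoPCent.Free
import Cfsg.Agent.Lib.Transfer.Burnside
import Cfsg.Agent.Lib.Transfer.EvalPow
import Mathlib.GroupTheory.SchurZassenhaus

/-!
# A non-free automizer

`Hyp.exists_auto`: if the automizer is not free, `W = 1` and `N(P) = P A ⟨x⟩` with `|A| = |P| - 1`,
`x` of order `p` fixing exactly one involution `a` of `P`.  `Auto.index_le`: the element `x` fixes at
most three of the conjugates of `N(P)`, permuted transitively by `C(x)`, which is the normalizer of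
`⟨x⟩`.
-/

set_option autoImplicit false
set_option linter.style.haveILetI false
set_option linter.unusedSectionVars false

namespace Cfsg.Agent.TwoPCent

open Cfsg Subgroup
open scoped Pointwise

universe u

variable {G : Type u} [Group G] {p : ℕ} {P : Sylow 2 G}

theorem conj_pow' (g x : G) (n : ℕ) : (g⁻¹ * x * g) ^ n = g⁻¹ * x ^ n * g := by
  simpa using (conj_pow (i := n) (a := g⁻¹) (b := x))

theorem conj_zpow' (g x : G) (n : ℤ) : (g⁻¹ * x * g) ^ n = g⁻¹ * x ^ n * g := by
  simpa using (conj_zpow (i := n) (a := g⁻¹) (b := x))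

theorem mem_zpowers_of_prime {r : ℕ} (hr : r.Prime) {y z : G} (hy : orderOf y = r)
    (hz : z ∈ zpowers y) (hz1 : z ≠ 1) : y ∈ zpowers z := by
  haveI : Fact (Nat.card (zpowers y)).Prime := ⟨by rw [Nat.card_zpowers, hy]; exact hr⟩
  exact ((zpowers z).subgroupOf (zpowers y)).eq_bot_or_eq_top_of_prime_card.elim
    (fun e => absurd (show (⟨z, hz⟩ : zpowers y) ∈ (zpowers z).subgroupOf (zpowers y) from
      mem_zpowers z) (by rw [e, mem_bot]; exact fun e' => hz1 (congrArg Subtype.val e')))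
    fun e => subgroupOf_eq_top.1 e (mem_zpowers y)

/-- A transfer argument: a simple group has no element of order `p` whose conjugates inside a
subgroup of index prime to `p` share a nontrivial image in an abelian group. -/
theorem false_of_transfer [Finite G] [IsSimpleGroup G] (hna : ∃ a b : G, a * b ≠ b * a)
    {p : ℕ} (hp : p.Prime) {T : Subgroup G} {B : Type*} [CommGroup B] (φ : T →* B) {x : G}
    (hx : x ∈ T) (ho : orderOf x = p) (hφ : φ ⟨x, hx⟩ ≠ 1) (hidx : ¬ p ∣ T.index)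
    (key : ∀ (g : G) (hg : g⁻¹ * x * g ∈ T), φ ⟨_, hg⟩ = φ ⟨x, hx⟩) : False := by
  have hV : MonoidHom.transfer φ x = φ ⟨x, hx⟩ ^ T.index := by
    refine Transfer.transfer_apply_eq_pow_index φ hx fun k g hk => ?_
    by_cases h1 : x ^ k = 1
    · have e1 : (⟨g⁻¹ * x ^ k * g, hk⟩ : T) = 1 := Subtype.ext (by simp [h1])
      rw [e1, map_one, ← map_pow, show (⟨x, hx⟩ : T) ^ k = 1 from Subtype.ext h1, map_one]
    · obtain ⟨j, hj⟩ := mem_zpowers_of_prime hp ho (pow_mem (mem_zpowers x) k) h1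
      have hg : g⁻¹ * x * g ∈ T := by
        have := zpow_mem hk j
        rwa [conj_zpow', show (x ^ k) ^ j = x from hj] at this
      rw [show (⟨g⁻¹ * x ^ k * g, hk⟩ : T) = ⟨_, hg⟩ ^ k from
        Subtype.ext (conj_pow' g x k).symm, map_pow, key g hg]
  have hne : MonoidHom.transfer φ x ≠ 1 := by
    rw [hV]
    intro e
    have h2 : orderOf (φ ⟨x, hx⟩) ∣ p := by
      rw [← ho, ← Subgroup.orderOf_mk x hx]; exact orderOf_map_dvd φ _
    have h3 := (hp.eq_one_or_self_of_dvd _ h2).resolve_left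
      fun e1 => hφ (orderOf_eq_one_iff.1 e1)
    exact hidx (h3 ▸ orderOf_dvd_of_pow_eq_one e)
  rcases (MonoidHom.transfer φ).normal_ker.eq_bot_or_eq_top with h | h
  · obtain ⟨a, b, hab⟩ := hna
    refine hab ((MonoidHom.ker_eq_bot_iff _).1 h ?_)
    rw [map_mul, map_mul, mul_comm]
  · exact hne (show x ∈ (MonoidHom.transfer φ).ker from h ▸ mem_top x)

namespace Hyp

variable [Finite G] (h : Hyp p P)
include h

theorem noncomm : ∃ a b : G, a * b ≠ b * a := by
  haveI := h.simple
  by_contra hno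
  push Not at hno
  have hn : (P : Subgroup G).Normal := ⟨fun v hv g => by rwa [hno g v, mul_inv_cancel_right]⟩
  obtain ⟨a, ha, ha1⟩ := h.exists_mem_ne_one
  rcases hn.eq_bot_or_eq_top with e | e
  · rw [e, mem_bot] at ha; exact ha1 ha
  · exact h.sup_ne_top (top_le_iff.1 (fun g _ => mem_sup_right (le_normalizer (e ▸ mem_top g))))

/-- An element of order `p` acting fixed-point-freely on a `p'`-group generates a Sylow subgroup
there. -/
theorem card_eq_p_of_fpf {Q R : Subgroup G} (hQ : IsPGroup p Q) (hQ1 : Q ≠ ⊥)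
    (hQR : Q ≤ normalizer (R : Set G)) (hR1 : R ≠ ⊥) (hRo : Odd (Nat.card R))
    (hRp : ¬ p ∣ Nat.card R) : Nat.card Q = p := by
  haveI := Fact.mk h.prime
  have hexp : ∀ u ∈ Q, u ^ p = 1 := fun u hu => by
    by_cases hu1 : u = 1
    · rw [hu1, one_pow]
    obtain ⟨k, hk⟩ := IsPGroup.iff_orderOf.1 hQ ⟨u, hu⟩
    rw [Subgroup.orderOf_mk] at hk
    rcases k with _ | k
    · exact absurd (orderOf_eq_one_iff.1 (hk.trans (pow_zero p))) hu1
    · exact orderOf_dvd_iff_pow_eq_one.1
        (h.orderOf_p (hk ▸ dvd_pow_self p k.succ_ne_zero) (hk ▸ h.odd_p.pow)).dvd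
  obtain ⟨k, hk⟩ := hQ.exists_card_eq
  rcases k with _ | _ | k
  · exact absurd (Subgroup.eq_bot_of_card_eq _ (hk.trans (pow_zero p))) hQ1
  · rw [hk, zero_add, pow_one]
  exfalso
  obtain ⟨A₀, hA₀⟩ := Sylow.exists_subgroup_card_pow_prime p (G := Q) (n := 2)
    (hk ▸ pow_dvd_pow p (by omega))
  set A := A₀.map Q.subtype
  have hAc : Nat.card A = p ^ 2 := by rw [card_map_of_injective Q.subtype_injective, hA₀]
  haveI : IsMulCommutative A :=
    ⟨⟨fun a b => IsPGroup.commutative_of_card_eq_prime_sq hAc a b⟩⟩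
  have hnc : ¬ IsCyclic A := fun hc => by
    obtain ⟨g, hg⟩ := hc.exists_generator
    have h1 : Nat.card A ∣ p := by
      rw [← Nat.card_congr (Equiv.subtypeUnivEquiv hg), Nat.card_zpowers]
      exact orderOf_dvd_of_pow_eq_one (Subtype.ext (hexp g (map_subtype_le _ g.2)))
    rw [hAc] at h1
    have := Nat.le_of_dvd h.prime.pos h1
    have := h.two_lt
    nlinarith
  have hcop : (Nat.card A).Coprime (Nat.card R) := by
    rw [hAc]; exact (h.prime.coprime_iff_not_dvd.2 hRp).pow_left 2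
  apply hR1
  rw [← Coprime.iSup_centralizer_eq hnc ((map_subtype_le _).trans hQR) hcop, eq_bot_iff]
  refine iSup₂_le fun u hu v hv => mem_bot.2 ?_
  have huo : orderOf u = p := (h.prime.eq_one_or_self_of_dvd _
    (orderOf_dvd_of_pow_eq_one (hexp u (map_subtype_le _ hu.1)))).resolve_left
      fun e => hu.2 (orderOf_eq_one_iff.1 e)
  obtain ⟨hvR, hvC⟩ := mem_inf.1 hv
  refine h.eq_one_of_commute huo (Nat.Coprime.mul_right ?_ ?_)
    (mem_centralizer_singleton_iff.1 hvC).symm
  · exact Nat.coprime_two_right.2 (hRo.of_dvd_nat (Subgroup.orderOf_dvd_natCard _ hvR))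
  · exact (h.prime.coprime_iff_not_dvd.2 fun e =>
      hRp (e.trans (Subgroup.orderOf_dvd_natCard _ hvR))).symm

end Hyp

/-- The structure of `N(P)` when the automizer is not free. -/
structure Auto (p : ℕ) (P : Sylow 2 G) (a x : G) (A : Subgroup G) : Prop where
  memP : a ∈ (P : Subgroup G)
  ne_one : a ≠ 1
  orderX : orderOf x = p
  commX : x * a = a * x
  memX : x ∈ normalizer ((P : Subgroup G) : Set G)
  leA : A ≤ normalizer ((P : Subgroup G) : Set G)
  normA : x ∈ normalizer (A : Set G)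
  fix : ∀ b ∈ (P : Subgroup G), x * b = b * x → b = 1 ∨ b = a
  semi : ∀ y ∈ A, ∀ b ∈ (P : Subgroup G), y * b = b * y → y = 1 ∨ b = 1
  fpf : ∀ y ∈ A, y * x * y⁻¹ ∈ zpowers x → y = 1
  cardA : Nat.card A + 1 = Nat.card (P : Subgroup G)
  notdvd : ¬ p ∣ Nat.card A
  cardN : Nat.card (normalizer ((P : Subgroup G) : Set G)) =
    Nat.card (P : Subgroup G) * (Nat.card A * p)
  decomp : ∀ n ∈ normalizer ((P : Subgroup G) : Set G),
    ∃ v ∈ (P : Subgroup G), ∃ y ∈ A, ∃ k : ℕ, n = v * y * x ^ k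

namespace Hyp

variable [Finite G] (h : Hyp p P)
include h

theorem exists_auto : ∃ (a x : G) (A : Subgroup G), Auto p P a x A := by
  haveI := Fact.mk h.prime
  haveI := h.isMulComm
  have hnf : ¬ IsFree P := fun hfree => h.not_free_aux hfree
  obtain ⟨g, hg, a, ha, ha1, hga, hgC⟩ : ∃ g ∈ normalizer ((P : Subgroup G) : Set G),
      ∃ a ∈ (P : Subgroup G), a ≠ 1 ∧ g * a = a * g ∧
        g ∉ centralizer ((P : Subgroup G) : Set G) := by
    simpa [IsFree, and_assoc] using hnf
  obtain ⟨hx₀, hx₀a, hx₀C⟩ := h.exists_p_of_fixed hg ha ha1 hga hgC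
  set x₀ := g ^ 2
  obtain ⟨r, hr, hrd, hr2, hrp⟩ : ∃ r : ℕ, r.Prime ∧
      r ∣ Nat.card (normalizer ((P : Subgroup G) : Set G)) ∧ r ≠ 2 ∧ r ≠ p := by
    by_contra hex
    push Not at hex
    exact hnf (h.free_of_no_prime fun r hr hd => by
      by_contra hc
      push Not at hc
      exact hc.2 (hex r hr hd hc.1)).1
  obtain ⟨H, R, hHN, hHC, hdec, hRH, hHR, hR1, hRp⟩ := h.exists_compl hr hrd hr2 hrp
  set N := normalizer ((P : Subgroup G) : Set G) with hN
  set C := centralizer ((P : Subgroup G) : Set G) with hC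
  have hHC1 : ∀ y ∈ H, y ∈ C → y = 1 := fun y hy hyC => by
    have : y ∈ H ⊓ C := mem_inf.2 ⟨hy, hyC⟩
    rwa [hHC, mem_bot] at this
  have hCconj : ∀ c ∈ C, ∀ n ∈ N, n * c * n⁻¹ ∈ C := fun c hc n hn => by
    refine mem_centralizer_iff.2 fun v hv => ?_
    have h1 := mem_centralizer_iff.1 hc _ ((mem_normalizer_iff''.1 hn v).1 hv)
    calc v * (n * c * n⁻¹) = n * (n⁻¹ * v * n * c) * n⁻¹ := by group
      _ = n * (c * (n⁻¹ * v * n)) * n⁻¹ := by rw [h1]
      _ = n * c * n⁻¹ * v := by group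
  have hHodd : Odd (Nat.card H) := by
    rw [← Nat.not_even_iff_odd, even_iff_two_dvd]
    intro h2
    haveI : Fact (Nat.Prime 2) := ⟨Nat.prime_two⟩
    obtain ⟨⟨y, hy⟩, hy2⟩ := exists_prime_orderOf_dvd_card' 2 h2
    rw [Subgroup.orderOf_mk] at hy2
    have hyP := h.mem_P_of_two (hHN hy) ⟨1, by rw [hy2, pow_one]⟩
    rw [hHC1 y hy (h.P_le_centralizer hyP), orderOf_one] at hy2
    exact absurd hy2 (by norm_num)
  -- the element `x`
  obtain ⟨c, hc, x, hxH, hx₀eq⟩ := hdec x₀ (pow_mem hg 2)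
  have hxa : x * a = a * x := by
    have h1 := mem_centralizer_iff.1 hc a ha
    have hx' : x = c⁻¹ * x₀ := by rw [hx₀eq, inv_mul_cancel_left]
    rw [hx']
    exact (((show Commute c a from h1.symm).inv_left).mul_left hx₀a :)
  have hxC : x ∉ C := fun hxc => hx₀C (hx₀eq ▸ mul_mem hc hxc)
  have hx1 : x ≠ 1 := fun e => hxC (e ▸ one_mem _)
  have hxo : orderOf x = p := (h.prime.eq_one_or_self_of_dvd _ (orderOf_dvd_of_pow_eq_one
    (h.oddCent a x (h.orderOf_eq_two ha ha1) hxa
      (hHodd.of_dvd_nat (Subgroup.orderOf_dvd_natCard _ hxH))))).resolve_left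
        fun e => hx1 (orderOf_eq_one_iff.1 e)
  -- the Sylow subgroup of `H`
  set xH : H := ⟨x, hxH⟩
  have hpg : IsPGroup p (zpowers xH) := IsPGroup.of_card (n := 1) (by
    rw [Nat.card_zpowers, Subgroup.orderOf_mk, hxo, pow_one])
  obtain ⟨S, hS⟩ := hpg.exists_le_sylow
  have hRo : Odd (Nat.card R) := hHodd.of_dvd_nat (card_dvd_of_le hRH)
  have hScard : Nat.card (S : Subgroup H) = p := by
    rw [Nat.card_congr ((S : Subgroup H).equivMapOfInjective H.subtype H.subtype_injective).toEquiv]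
    refine h.card_eq_p_of_fpf (S.2.map _) (fun e => hx1 ?_) ((map_subtype_le _).trans hHR) hR1
      hRo hRp
    have : x ∈ (S : Subgroup H).map H.subtype := ⟨xH, hS (mem_zpowers _), rfl⟩
    rwa [e, mem_bot] at this
  have hSeq : zpowers xH = (S : Subgroup H) := eq_of_le_of_card_ge hS (by
    rw [hScard, Nat.card_zpowers, Subgroup.orderOf_mk, hxo])
  -- self-normalizing
  have hnorm : ∀ y ∈ H, y * x * y⁻¹ ∈ zpowers x → y ∈ zpowers x := by
    intro y hy hyx
    set L := H ⊓ normalizer ((zpowers x : Subgroup G) : Set G)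
    have hyL : y ∈ L := mem_inf.2 ⟨hy, by
      refine Coprime.mem_normalizer_of_conj_smul_eq (eq_of_le_of_card_ge ?_ ?_)
      · show (zpowers x).map (MulAut.conj y).toMonoidHom ≤ _
        rw [MonoidHom.map_zpowers, zpowers_le]
        exact hyx
      · show Nat.card (zpowers x) ≤ Nat.card ((zpowers x).map (MulAut.conj y).toMonoidHom)
        rw [card_map_of_injective (MulAut.conj y).injective]⟩
    have hLp : IsPGroup p L := by
      refine IsPGroup.of_card (Nat.eq_prime_pow_of_unique_prime_dvd Nat.card_pos.ne'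
        fun {s} hs hsd => ?_)
      by_contra hsp
      haveI := Fact.mk hs
      have hs2 : s ≠ 2 := fun e => Nat.not_even_iff_odd.2 hHodd
        (even_iff_two_dvd.2 (e ▸ hsd.trans (card_dvd_of_le inf_le_left)))
      obtain ⟨⟨z, hz⟩, hzo⟩ := exists_prime_orderOf_dvd_card' s hsd
      rw [Subgroup.orderOf_mk] at hzo
      obtain ⟨hzH, hzn⟩ := mem_inf.1 hz
      refine hxC (mem_zpowers x |> fun hm => ?_)
      refine (AbelianCent.le_centralizer_of_fpf (V := (P : Subgroup G)) (U := zpowers x)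
        (L := zpowers z) (zpowers_le.2 (hHN hxH)) (zpowers_le.2 (hHN hzH)) (zpowers_le.2 hzn)
        ?_ ?_ ?_) hm
      · exact (h.coprime_P_of_odd (by rw [Nat.card_zpowers, hxo]; exact h.odd_p)).symm
      · intro l hl hl1 u hu hlu
        by_contra hu1
        have huo : orderOf u = p := (h.prime.eq_one_or_self_of_dvd _
          (hxo ▸ orderOf_dvd_of_mem_zpowers hu)).resolve_left
            fun e => hu1 (orderOf_eq_one_iff.1 e)
        have hlo : orderOf l = s := (hs.eq_one_or_self_of_dvd _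
          (hzo ▸ orderOf_dvd_of_mem_zpowers hl)).resolve_left
            fun e => hl1 (orderOf_eq_one_iff.1 e)
        exact hl1 (h.eq_one_of_commute huo (by rw [hlo]; exact h.coprime_two_p hs hs2 hsp)
          (Commute.symm hlu))
      · exact eq_bot_iff.2 fun b hb => mem_bot.2 (h.semiregular hs hzo hs2 hsp hb.1
          (mem_centralizer_iff.1 hb.2 z (mem_zpowers z)))
    obtain ⟨S', hS'⟩ := ((hLp.of_equiv
      (subgroupOfEquivOfLe (show L ≤ H from inf_le_left)).symm)).exists_le_sylow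
    have hS'card : Nat.card (S' : Subgroup H) = p := by
      rw [S'.card_eq_multiplicity, ← S.card_eq_multiplicity, hScard]
    have hxL : zpowers xH ≤ (S' : Subgroup H) := zpowers_le.2 (hS'
      (mem_subgroupOf.2 (mem_inf.2 ⟨hxH, le_normalizer (mem_zpowers x)⟩)))
    have heq : zpowers xH = (S' : Subgroup H) := eq_of_le_of_card_ge hxL (by
      rw [hS'card, Nat.card_zpowers, Subgroup.orderOf_mk, hxo])
    have hyS : (⟨y, hy⟩ : H) ∈ (S' : Subgroup H) := hS' (mem_subgroupOf.2 hyL)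
    rw [← heq] at hyS
    obtain ⟨n, hn⟩ := hyS
    exact ⟨n, congrArg Subtype.val hn⟩
  have hcompl : HasNormalPComplement p H := by
    refine Transfer.hasNormalPComplement_of_normalizer_le_centralizer S fun z hz => ?_
    change z ∈ normalizer ((S : Subgroup H) : Set H) at hz
    show z ∈ centralizer ((S : Subgroup H) : Set H)
    rw [← hSeq] at hz ⊢
    have h1 := (mem_normalizer_iff.1 hz xH).1 (mem_zpowers _)
    obtain ⟨n, hn⟩ := h1
    have h2 := hnorm z z.2 ⟨n, congrArg Subtype.val hn⟩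
    obtain ⟨m, hm⟩ := h2
    refine mem_centralizer_iff.2 fun w hw => ?_
    obtain ⟨l, rfl⟩ := hw
    rw [show z = xH ^ m from Subtype.ext hm.symm]
    exact ((Commute.refl xH).zpow_zpow l m :)
  obtain ⟨S₁, K, hKn, hK⟩ := hcompl
  haveI := hKn
  have hS₁ : Nat.card (S₁ : Subgroup H) = p := by
    rw [S₁.card_eq_multiplicity, ← S.card_eq_multiplicity, hScard]
  set A := K.map H.subtype with hA
  have hAH : A ≤ H := map_subtype_le _
  have hKidx : K.index = p := by rw [hK.symm.index_eq_card, hS₁]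
  have hKp : ¬ p ∣ Nat.card K := by
    intro hd
    have h1 := S₁.card_coprime_index
    rw [hK.index_eq_card, hS₁] at h1
    exact h.prime.not_dvd_one (Nat.eq_one_of_dvd_coprimes h1 dvd_rfl hd ▸ dvd_rfl)
  have hAp : ¬ p ∣ Nat.card A := by rwa [hA, card_map_of_injective H.subtype_injective]
  have hAfix : ∀ y ∈ A, y * a = a * y → y = 1 := fun y hy hya => by
    have h1 := h.oddCent a y (h.orderOf_eq_two ha ha1) hya
      (hHodd.of_dvd_nat (Subgroup.orderOf_dvd_natCard _ (hAH hy)))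
    rcases h.prime.eq_one_or_self_of_dvd _ (orderOf_dvd_of_pow_eq_one h1) with e | e
    · exact orderOf_eq_one_iff.1 e
    · exact absurd (e ▸ Subgroup.orderOf_dvd_natCard _ hy) hAp
  have hfixH : ∀ y ∈ H, y * a = a * y → y ∈ zpowers x := by
    intro y hy hya
    set L := H ⊓ centralizer ({a} : Set G)
    have hLp : IsPGroup p L := by
      refine IsPGroup.of_card (Nat.eq_prime_pow_of_unique_prime_dvd Nat.card_pos.ne'
        fun {s} hs hsd => ?_)
      refine (h.prime_dvd_cent (h.orderOf_eq_two ha ha1) hs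
        (hsd.trans (card_dvd_of_le inf_le_right))).resolve_left fun e => ?_
      exact Nat.not_even_iff_odd.2 hHodd
        (even_iff_two_dvd.2 (e ▸ hsd.trans (card_dvd_of_le inf_le_left)))
    obtain ⟨S', hS'⟩ := ((hLp.of_equiv
      (subgroupOfEquivOfLe (show L ≤ H from inf_le_left)).symm)).exists_le_sylow
    have hS'card : Nat.card (S' : Subgroup H) = p := by
      rw [S'.card_eq_multiplicity, ← S.card_eq_multiplicity, hScard]
    have hxL : zpowers xH ≤ (S' : Subgroup H) := zpowers_le.2 (hS'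
      (mem_subgroupOf.2 (mem_inf.2 ⟨hxH, mem_centralizer_singleton_iff.2 hxa⟩)))
    have heq : zpowers xH = (S' : Subgroup H) := eq_of_le_of_card_ge hxL (by
      rw [hS'card, Nat.card_zpowers, Subgroup.orderOf_mk, hxo])
    have hyS : (⟨y, hy⟩ : H) ∈ (S' : Subgroup H) :=
      hS' (mem_subgroupOf.2 (mem_inf.2 ⟨hy, mem_centralizer_singleton_iff.2 hya⟩))
    rw [← heq] at hyS
    obtain ⟨n, hn⟩ := hyS
    exact ⟨n, congrArg Subtype.val hn⟩
  have hdecH : ∀ y ∈ H, ∃ z ∈ A, ∃ k : ℕ, y = z * x ^ k := by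
    intro y hy
    have h1 : (⟨y, hy⟩ : H) ∈ K ⊔ (S : Subgroup H) := by
      have h2 : K ⊔ (S : Subgroup H) = ⊤ := by
        refine eq_top_of_card_eq _ ?_
        refine Nat.dvd_antisymm (card_subgroup_dvd_card _) ?_
        rw [← K.card_mul_index, hKidx]
        exact Nat.Coprime.mul_dvd_of_dvd_of_dvd (h.prime.coprime_iff_not_dvd.2 hKp).symm
          (card_dvd_of_le le_sup_left) ((dvd_of_eq hScard.symm).trans (card_dvd_of_le le_sup_right))
      rw [h2]; exact mem_top _
    rw [mem_sup_of_normal_left, ← hSeq] at h1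
    obtain ⟨z, hz, s, hs, e⟩ := h1
    obtain ⟨k, rfl⟩ := (isOfFinOrder_of_finite xH).mem_powers_iff_mem_zpowers.2 hs
    exact ⟨z, ⟨z, hz, rfl⟩, k, (congrArg Subtype.val e).symm.trans (by simp [xH])⟩
  have hcardA : Nat.card A + 1 = Nat.card (P : Subgroup G) := by
    have hq := h.big
    have hidx := h.index_stab ha ha1
    rw [index_eq_card] at hidx
    set St := (centralizer ({a} : Set G)).subgroupOf N
    have hbij : Function.Bijective
        fun y : A => QuotientGroup.mk (s := St) ⟨(y : G), hHN (hAH y.2)⟩ := by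
      refine ⟨fun y z e => ?_, ?_⟩
      · have h1 := mem_centralizer_singleton_iff.1 (mem_subgroupOf.1 (QuotientGroup.eq.1 e))
        push_cast at h1
        exact Subtype.ext (inv_mul_eq_one.1 (hAfix _ (mul_mem (inv_mem y.2) z.2) h1))
      · intro z
        induction z using QuotientGroup.induction_on with | _ n => ?_
        obtain ⟨c, hc, y, hy, e⟩ := hdec n n.2
        obtain ⟨z, hz, k, rfl⟩ := hdecH y hy
        refine ⟨⟨z, hz⟩, QuotientGroup.eq.2 (mem_subgroupOf.2 ?_)⟩
        show z⁻¹ * (n : G) ∈ centralizer ({a} : Set G)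
        rw [e, show z⁻¹ * (c * (z * x ^ k)) = z⁻¹ * c * z * x ^ k by group]
        refine mul_mem (h.centralizer_P_le ha ?_) (pow_mem (mem_centralizer_singleton_iff.2 hxa) k)
        have h2 := hCconj c hc z⁻¹ (inv_mem (hHN (hAH hz)))
        rw [inv_inv] at h2
        exact h2
    rw [← Nat.card_eq_of_bijective _ hbij] at hidx
    omega
  have hAne : ∃ s : ℕ, s.Prime ∧ s ∣ Nat.card A :=
    Nat.exists_prime_and_dvd (by have := h.big; omega)
  have hnA : x ∈ normalizer (A : Set G) :=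
    le_normalizer_map H.subtype ⟨xH, by rw [normalizer_eq_top]; exact mem_top _, rfl⟩
  have hfpf : ∀ y ∈ A, y * x * y⁻¹ ∈ zpowers x → y = 1 := fun y hy hyx => by
    have h1 := hnorm y (hAH hy) hyx
    rcases h.prime.eq_one_or_self_of_dvd _ (hxo ▸ orderOf_dvd_of_mem_zpowers h1) with e | e
    · exact orderOf_eq_one_iff.1 e
    · exact absurd (e ▸ Subgroup.orderOf_dvd_natCard _ hy) hAp
  -- `W` is trivial
  have hW : W P = ⊥ := by
    have hAW : A ≤ centralizer (W P : Set G) := by
      refine le_centralizer_of_norm_pgroup (x := x) h.W_isPGroup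
        ((hAH.trans hHN).trans h.N_le_normalizer_W) (h.N_le_normalizer_W (hHN hxH)) hnA hxo hAp ?_
        ?_ fun v hv => h.le_of_sup_pgroup (hHN hxH) hxo hv
      · obtain ⟨k, hk⟩ := h.W_isPGroup.exists_card_eq
        rw [hk]
        exact (h.prime.coprime_iff_not_dvd.2 hAp).symm.pow_right k
      · intro l hl hl1 u hu hlu
        refine hfpf u hu ?_
        obtain ⟨j, hj⟩ := mem_zpowers_of_prime h.prime hxo hl hl1
        have : Commute u x := hj ▸ ((show Commute u l from hlu.symm).zpow_right j :)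
        rw [this.eq, mul_inv_cancel_right]
        exact mem_zpowers x
    obtain ⟨s, hs, hsd⟩ := hAne
    haveI := Fact.mk hs
    obtain ⟨⟨y, hy⟩, hyo⟩ := exists_prime_orderOf_dvd_card' s hsd
    rw [Subgroup.orderOf_mk] at hyo
    refine eq_bot_iff.2 fun w hw => mem_bot.2 (by_contra fun hw1 => ?_)
    have hwo : orderOf w = p := (h.prime.eq_one_or_self_of_dvd _
      (orderOf_dvd_of_pow_eq_one (h.W_pow hw))).resolve_left
        fun e => hw1 (orderOf_eq_one_iff.1 e)
    have hs2 : s ≠ 2 := fun e => Nat.not_even_iff_odd.2 hHodd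
      (even_iff_two_dvd.2 (e ▸ hsd.trans (card_dvd_of_le hAH)))
    have hsp : s ≠ p := fun e => hAp (e ▸ hsd)
    have := h.eq_one_of_commute hwo (y := y) (by rw [hyo]; exact h.coprime_two_p hs hs2 hsp)
      (mem_centralizer_iff.1 (hAW hy) w hw)
    rw [this, orderOf_one] at hyo
    exact hs.one_lt.ne hyo
  have hCP : C = (P : Subgroup G) := by rw [hC, h.C_eq, hW, bot_sup_eq]
  have hcardH : Nat.card H = Nat.card A * p := by
    rw [hA, card_map_of_injective H.subtype_injective, ← hKidx, card_mul_index]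
  refine ⟨a, x, A, ha, ha1, hxo, hxa, hHN hxH, hAH.trans hHN, hnA, ?_, ?_, hfpf, hcardA, hAp,
    ?_, ?_⟩
  · intro b hb hxb
    by_cases hb1 : b = 1
    · exact Or.inl hb1
    refine Or.inr ?_
    obtain ⟨n, hn, hna⟩ := h.transitive ha ha1 hb hb1
    obtain ⟨c, hc, y, hy, rfl⟩ := hdec n hn
    have hyab : y * a * y⁻¹ = b := by
      have h1 : c⁻¹ * b * c = b := by
        rw [mul_assoc, mem_centralizer_iff.1 hc b hb, inv_mul_cancel_left]
      rw [← h1, ← hna]; group
    have hfix : y⁻¹ * x * y * a = a * (y⁻¹ * x * y) := by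
      calc y⁻¹ * x * y * a = y⁻¹ * (x * (y * a * y⁻¹)) * y := by group
        _ = y⁻¹ * (y * a * y⁻¹ * x) * y := by rw [hyab, hxb]
        _ = a * (y⁻¹ * x * y) := by group
    obtain ⟨j, hj⟩ := hfixH _ (mul_mem (mul_mem (inv_mem hy) hxH) hy) hfix
    have hy2 := hnorm y⁻¹ (inv_mem hy) ⟨j, by rw [inv_inv]; exact hj⟩
    obtain ⟨m, hm⟩ := (inv_mem_iff (H := zpowers x)).1 hy2
    rw [← hyab, ← hm]
    exact mul_inv_eq_iff_eq_mul.2 ((show Commute x a from hxa).zpow_left m)
  · intro y hy b hb hyb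
    refine or_iff_not_imp_right.2 fun hb1 => ?_
    have h1 := h.oddCent b y (h.orderOf_eq_two hb hb1) hyb
      (hHodd.of_dvd_nat (Subgroup.orderOf_dvd_natCard _ (hAH hy)))
    rcases h.prime.eq_one_or_self_of_dvd _ (orderOf_dvd_of_pow_eq_one h1) with e | e
    · exact orderOf_eq_one_iff.1 e
    · exact absurd (e ▸ Subgroup.orderOf_dvd_natCard _ hy) hAp
  · rw [← hcardH, show Nat.card (P : Subgroup G) = Nat.card C by rw [hCP], ← Nat.card_prod]
    refine (Nat.card_eq_of_bijective (fun z : C × H => (⟨(z.1 : G) * z.2,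
      mul_mem (centralizer_le_normalizer _ z.1.2) (hHN z.2.2)⟩ : N))
      ⟨fun u v e => ?_, fun n => ?_⟩).symm
    · exact mul_injective_of_disjoint (disjoint_iff.2 (inf_comm H C ▸ hHC))
        (congrArg Subtype.val e)
    · obtain ⟨c, hc, y, hy, e⟩ := hdec n n.2
      exact ⟨(⟨c, hc⟩, ⟨y, hy⟩), Subtype.ext e.symm⟩
  · intro n hn
    obtain ⟨c, hc, y, hy, rfl⟩ := hdec n hn
    obtain ⟨z, hz, k, rfl⟩ := hdecH y hy
    exact ⟨c, hCP ▸ hc, z, hz, k, by rw [mul_assoc]⟩

end Hyp

end Cfsg.Agent.TwoPCent
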