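import Cfsg.Agent.Lib.TwoPCent.Automizer
import Cfsg.Agent.Lib.InvolRankOne.Structure
import Cfsg.Agent.Lib.CharInt.Kazarin

/-!
# The free case

`Hyp.not_free`: the automizer of the Sylow 2-subgroup is not free.  Otherwise the signalizer `W` is
nontrivial, `P W` has an orbit of length at least `|P| p` (or `|P| |W|`) on the points other than
`N(P)`, and the class sum on the principal block allows at most `|P| (|P| - 2)` points.
-/

set_option autoImplicit false
set_option linter.style.haveILetI false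
set_option linter.unusedSectionVars false

namespace Cfsg.Agent.TwoPCent

open Cfsg Subgroup
open scoped Pointwise Classical ComplexConjugate

universe u

variable {G : Type u} [Group G] {p : ℕ} {P : Sylow 2 G}

namespace Hyp

variable [Finite G] (h : Hyp p P)
include h

/-- A solvable subgroup containing `P` lies in `N(P)`. -/
theorem solvable_le_N {X : Subgroup G} (hPX : (P : Subgroup G) ≤ X) [Group.IsSolvable X] :
    X ≤ normalizer ((P : Subgroup G) : Set G) := by
  refine (h.le_sup_of_solvable hPX).1.trans (sup_le ?_ le_rfl)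
  haveI := h.isMulComm
  set Y := (pPrimeCore 2 X).map X.subtype
  have hYodd : Odd (Nat.card Y) := by
    rw [card_map_of_injective X.subtype_injective]
    exact Nat.coprime_two_right.1 PCore.coprime_card_pPrimeCore
  have hPY : (P : Subgroup G) ≤ normalizer (Y : Set G) := by
    refine fun v hv => le_normalizer_map X.subtype ⟨⟨v, hPX hv⟩, ?_, rfl⟩
    show _ ∈ normalizer ((pPrimeCore 2 X : Subgroup X) : Set X)
    rw [normalizer_eq_top]
    exact mem_top _
  have hnc : ¬ IsCyclic (P : Subgroup G) := fun hc => by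
    obtain ⟨g, hg⟩ := hc.exists_generator
    have h1 : Nat.card (P : Subgroup G) ≤ 2 := by
      rw [← Nat.card_congr (Equiv.subtypeUnivEquiv hg), Nat.card_zpowers]
      exact Nat.le_of_dvd two_pos (orderOf_dvd_of_pow_eq_one (Subtype.ext (by
        rw [pow_two]; exact h.sq g g.2)))
    have := h.big
    omega
  rw [← Coprime.iSup_centralizer_eq hnc hPY (h.coprime_P_of_odd hYodd)]
  exact iSup₂_le fun a ha => inf_le_right.trans (h.cent_le_N ha.1 ha.2)

/-- The centralizer of a nontrivial element of `W` lies in `N(P)`. -/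
theorem centralizer_W_le {x : G} (hx : x ∈ W P) (hx1 : x ≠ 1) :
    centralizer ({x} : Set G) ≤ normalizer ((P : Subgroup G) : Set G) := by
  have hxo : orderOf x = p := (h.prime.eq_one_or_self_of_dvd _
    (orderOf_dvd_of_pow_eq_one (h.W_pow hx))).resolve_left fun e =>
      hx1 (orderOf_eq_one_iff.1 e)
  set n := Nat.card (centralizer ({x} : Set G))
  have hprimes : ∀ r : ℕ, r.Prime → r ∣ n → r = 2 ∨ r = p := by
    intro r hr hd
    by_contra hc
    push Not at hc
    haveI := Fact.mk hr
    obtain ⟨y, hy⟩ := exists_prime_orderOf_dvd_card' r hd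
    rw [← Subgroup.orderOf_coe] at hy
    have := h.eq_one_of_commute hxo (y := (y : G)) (hy ▸ h.coprime_two_p hr hc.1 hc.2)
      (mem_centralizer_singleton_iff.1 y.2).symm
    rw [this, orderOf_one] at hy
    exact hr.one_lt.ne hy
  haveI : Group.IsSolvable (centralizer ({x} : Set G)) := by
    refine CharInt.isSolvable_of_card_eq (a := n.factorization 2) (b := n.factorization p)
      Nat.prime_two h.prime ?_
    have hn : n ≠ 0 := Nat.card_pos.ne'
    conv_lhs => rw [show Nat.card (centralizer ({x} : Set G)) = n from rfl,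
      ← Nat.prod_factorization_pow_eq_self hn]
    rw [Finsupp.prod, Nat.support_factorization]
    rw [Finset.prod_subset (s₂ := {2, p}) (fun r hr => ?_) (fun r _ hr => ?_),
      Finset.prod_pair (Ne.symm h.ne_two)]
    · rcases hprimes r (Nat.prime_of_mem_primeFactors hr) (Nat.dvd_of_mem_primeFactors hr)
        with e | e <;> simp [e]
    · rw [← Nat.support_factorization, Finsupp.notMem_support_iff] at hr
      rw [hr, pow_zero]
  exact h.solvable_le_N fun v hv => mem_centralizer_singleton_iff.2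
    (mem_centralizer_iff.1 (h.W_le hx) v hv)

variable (hfree : IsFree P)
include hfree

theorem setup : InvolRankOne.Setup P := ⟨h.sq, h.big, hfree⟩

theorem W_ne_bot : W P ≠ ⊥ := by
  intro hW
  obtain ⟨t, x, ht, hxt, hx⟩ := h.occurs
  obtain ⟨a, ha, ha1⟩ := h.exists_mem_ne_one
  obtain ⟨g, hg⟩ := isConj_iff.1 (Involution.StrongEmb.isConj_involutions h.stronglyEmbedded_N ht
    (h.orderOf_eq_two ha ha1))
  have hmem : g * x * g⁻¹ ∈ centralizer ({a} : Set G) := by
    rw [mem_centralizer_singleton_iff, ← hg, show g * x * g⁻¹ * (g * t * g⁻¹) =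
      g * (x * t) * g⁻¹ by group, hxt.eq]
    group
  rw [(h.setup hfree).C_eq ha ha1, show InvolRankOne.O a = O a from rfl,
    eq_bot_iff.2 ((h.O_le_W ha ha1).trans hW.le), bot_sup_eq] at hmem
  have h2 := orderOf_dvd_of_pow_eq_one (x := g * x * g⁻¹) (n := 2) (by
    rw [pow_two]; exact h.sq _ hmem)
  rw [Involution.StrongEmb.orderOf_conj', hx] at h2
  exact h.ne_two ((Nat.prime_dvd_prime_iff_eq h.prime Nat.prime_two).1 h2)

theorem index_C : ((centralizer ((P : Subgroup G) : Set G)).subgroupOf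
    (normalizer ((P : Subgroup G) : Set G))).index = Nat.card (P : Subgroup G) - 1 := by
  obtain ⟨a, ha, ha1⟩ := h.exists_mem_ne_one
  rw [← h.index_stab ha ha1]
  congr 1
  ext ⟨g, hg⟩
  simp only [mem_subgroupOf]
  exact ⟨fun hc => h.centralizer_P_le ha hc,
    fun hc => hfree g hg a ha ha1 (mem_centralizer_singleton_iff.1 hc)⟩

theorem card_N : Nat.card (normalizer ((P : Subgroup G) : Set G)) =
    (Nat.card (P : Subgroup G) - 1) * (Nat.card (W P) * Nat.card (P : Subgroup G)) := by
  rw [← (centralizer ((P : Subgroup G) : Set G)).subgroupOf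
    (normalizer ((P : Subgroup G) : Set G)) |>.index_mul_card, h.index_C hfree, ← h.card_C,
    Nat.card_congr (subgroupOfEquivOfLe (centralizer_le_normalizer _)).toEquiv]

/-- If `p` divides `|P| - 1` it is equal to it. -/
theorem eq_pred_of_dvd (hd : p ∣ Nat.card (P : Subgroup G) - 1) :
    Nat.card (P : Subgroup G) - 1 = p := by
  by_cases hex : ∃ r : ℕ, r.Prime ∧ r ∣ Nat.card (normalizer ((P : Subgroup G) : Set G)) ∧
      r ≠ 2 ∧ r ≠ p
  swap
  · push Not at hex
    have := (h.free_of_no_prime fun r hr hd => by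
      by_contra hc
      push Not at hc
      exact hc.2 (hex r hr hd hc.1)).2
    omega
  exfalso
  obtain ⟨r, hr, hrd, hr2, hrp⟩ := hex
  haveI := Fact.mk h.prime
  haveI := h.isMulComm
  obtain ⟨H, R, hHN, hHC, hdec, hRH, hHR, hR1, hRp⟩ := h.exists_compl hr hrd hr2 hrp
  set N := normalizer ((P : Subgroup G) : Set G) with hN
  set C := centralizer ((P : Subgroup G) : Set G) with hC
  have hcardH : Nat.card H = Nat.card (P : Subgroup G) - 1 := by
    rw [← h.index_C hfree, index_eq_card]
    refine Nat.card_eq_of_bijective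
      (fun k : H => QuotientGroup.mk (s := C.subgroupOf N) ⟨k, hHN k.2⟩) ⟨fun a b e => ?_, ?_⟩
    · have h1 : (a : G)⁻¹ * b ∈ H ⊓ C :=
        mem_inf.2 ⟨mul_mem (inv_mem a.2) b.2, mem_subgroupOf.1 (QuotientGroup.eq.1 e)⟩
      rw [hHC, mem_bot, inv_mul_eq_one] at h1
      exact Subtype.ext h1
    · intro z
      induction z using QuotientGroup.induction_on with | _ n => ?_
      obtain ⟨c, hc, k, hk, e⟩ := hdec n n.2
      refine ⟨⟨k, hk⟩, QuotientGroup.eq.2 (mem_subgroupOf.2 ?_)⟩
      show k⁻¹ * (n : G) ∈ C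
      rw [e]
      refine mem_centralizer_iff.2 fun v hv => ?_
      have h1 := mem_centralizer_iff.1 hc _ ((mem_normalizer_iff.1 (hHN hk) v).1 hv)
      calc v * (k⁻¹ * (c * k)) = k⁻¹ * (k * v * k⁻¹ * c) * k := by group
        _ = k⁻¹ * (c * (k * v * k⁻¹)) * k := by rw [h1]
        _ = k⁻¹ * (c * k) * v := by group
  obtain ⟨⟨z, hz⟩, hzo⟩ := exists_prime_orderOf_dvd_card' (G := H) p (hcardH ▸ hd)
  rw [Subgroup.orderOf_mk] at hzo
  have hz1 : z ≠ 1 := fun e => by
    rw [e, orderOf_one] at hzo; exact h.prime.one_lt.ne hzo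
  have hzC : z ∉ C := fun hc => hz1 (by
    have : z ∈ H ⊓ C := mem_inf.2 ⟨hz, hc⟩
    rwa [hHC, mem_bot] at this)
  have hRtwo : ∀ x ∈ R, x * x = 1 → x = 1 := fun x hx hx2 => by
    have hxP : x ∈ (P : Subgroup G) := h.mem_P_of_two (hHN (hRH hx)) (by
      rcases (Nat.dvd_prime Nat.prime_two).1 (orderOf_dvd_of_pow_eq_one (x := x) (n := 2) (by rw [pow_two, hx2]))
        with e | e
      · exact ⟨0, e⟩
      · exact ⟨1, e⟩)
    have : x ∈ H ⊓ C := mem_inf.2 ⟨hRH hx, h.P_le_centralizer hxP⟩
    rwa [hHC, mem_bot] at this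
  have hRodd : Odd (Nat.card R) := by
    rw [← Nat.not_even_iff_odd, even_iff_two_dvd]
    intro h2
    obtain ⟨x, hx⟩ := exists_prime_orderOf_dvd_card' 2 h2
    rw [← Subgroup.orderOf_coe] at hx
    have h1 := hRtwo x x.2 (Involution.StrongEmb.mul_self_of_orderOf hx)
    rw [h1, orderOf_one] at hx
    exact absurd hx (by norm_num)
  have hle : R ≤ centralizer ((P : Subgroup G) : Set G) := by
    refine AbelianCent.le_centralizer_of_fpf (L := zpowers z) (hRH.trans hHN)
      (zpowers_le.2 (hHN hz)) (zpowers_le.2 (hHR hz)) (h.coprime_P_of_odd hRodd).symm ?_ ?_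
    · intro l hl hl1 u hu hlu
      have hlo : orderOf l = p := (h.prime.eq_one_or_self_of_dvd _
        (hzo ▸ orderOf_dvd_of_mem_zpowers hl)).resolve_left fun e1 =>
          hl1 (orderOf_eq_one_iff.1 e1)
      refine h.eq_one_of_commute hlo (Nat.Coprime.mul_right ?_ ?_) hlu
      · exact Nat.coprime_two_right.2 (hRodd.of_dvd_nat (Subgroup.orderOf_dvd_natCard _ hu))
      · exact (h.prime.coprime_iff_not_dvd.2 fun e =>
          hRp (e.trans (Subgroup.orderOf_dvd_natCard _ hu))).symm
    · exact eq_bot_iff.2 fun a ha => mem_bot.2 (by_contra fun ha1 => hzC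
        (hfree z (hHN hz) a ha.1 ha1 (mem_centralizer_iff.1 ha.2 z (mem_zpowers z))))
  exact hR1 (eq_bot_iff.2 fun x hx => by
    have : x ∈ H ⊓ C := mem_inf.2 ⟨hRH hx, hle hx⟩
    rwa [hHC] at this)

/-- `W` contains an abelian group on which the automizer acts freely. -/
theorem le_card_W (hd : ¬ p ∣ Nat.card (P : Subgroup G) - 1) :
    Nat.card (P : Subgroup G) ≤ Nat.card (W P) := by
  haveI := Fact.mk h.prime
  set N := normalizer ((P : Subgroup G) : Set G) with hN
  set C := centralizer ((P : Subgroup G) : Set G) with hC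
  set Z := (center (W P)).map (W P).subtype with hZ
  haveI : Nontrivial (W P) := (Subgroup.nontrivial_iff_ne_bot _).2 (h.W_ne_bot hfree)
  haveI := h.W_isPGroup.center_nontrivial
  obtain ⟨⟨z₀, hz₀c⟩, hz₀1⟩ := exists_ne (1 : center (W P))
  set z : G := (z₀ : G)
  have hz1 : z ≠ 1 := fun e => hz₀1 (Subtype.ext (Subtype.ext e))
  have hzW : z ∈ W P := z₀.2
  have hzo : orderOf z = p := (h.prime.eq_one_or_self_of_dvd _
    (orderOf_dvd_of_pow_eq_one (h.W_pow hzW))).resolve_left fun e =>
      hz1 (orderOf_eq_one_iff.1 e)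
  have hCz : C ≤ centralizer ({z} : Set G) := by
    rw [hC, h.C_eq]
    refine sup_le (fun w hw => mem_centralizer_singleton_iff.2 ?_)
      (fun v hv => mem_centralizer_singleton_iff.2 (mem_centralizer_iff.1 (h.W_le hzW) v hv))
    exact congrArg Subtype.val (mem_center_iff.1 hz₀c ⟨w, hw⟩)
  set C' := C.subgroupOf N with hC'
  haveI hCn : C'.Normal := by
    refine ⟨fun c hc g => mem_subgroupOf.2 (mem_centralizer_iff.2 fun v hv => ?_)⟩
    have h1 := mem_centralizer_iff.1 (mem_subgroupOf.1 hc) _ ((mem_normalizer_iff''.1 g.2 v).1 hv)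
    push_cast
    calc v * ((g : G) * c * (g : G)⁻¹) = (g : G) * ((g : G)⁻¹ * v * g * c) * (g : G)⁻¹ := by group
      _ = (g : G) * (c * ((g : G)⁻¹ * v * g)) * (g : G)⁻¹ := by rw [h1]
      _ = (g : G) * c * (g : G)⁻¹ * v := by group
  have hfix : ∀ g ∈ N, g * z = z * g → g ∈ C := by
    intro g hg hgz
    have hodd : Odd (Nat.card (P : Subgroup G) - 1) := by
      haveI : Fact (Nat.Prime 2) := ⟨Nat.prime_two⟩
      obtain ⟨k, hk⟩ := IsPGroup.iff_card.1 P.2
      have := h.big
      rw [hk] at this ⊢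
      rcases k with _ | k
      · simp at this
      · exact ⟨2 ^ k - 1, by rw [pow_succ]; have := Nat.one_le_two_pow (n := k); omega⟩
    have hco : (orderOf g).Coprime (Nat.card (P : Subgroup G) - 1) := by
      refine Nat.coprime_of_dvd fun r hr hrg hrq => ?_
      rcases eq_or_ne r 2 with rfl | hr2
      · exact Nat.not_even_iff_odd.2 hodd (even_iff_two_dvd.2 hrq)
      rcases eq_or_ne r p with rfl | hrp
      · exact hd hrq
      have hyo : orderOf (g ^ (orderOf g / r)) = r := by
        rw [orderOf_pow, Nat.gcd_eq_right (Nat.div_dvd_of_dvd hrg),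
          Nat.div_div_self hrg (orderOf_pos g).ne']
      have := h.eq_one_of_commute hzo (by rw [hyo]; exact h.coprime_two_p hr hr2 hrp)
        ((Commute.pow_left hgz (orderOf g / r)).symm)
      rw [this, orderOf_one] at hyo
      exact hr.one_lt.ne hyo
    have h1 : g ^ (Nat.card (P : Subgroup G) - 1) ∈ C := by
      have := C'.pow_index_mem ⟨g, hg⟩
      rw [hC', h.index_C hfree] at this
      exact mem_subgroupOf.1 this
    obtain ⟨j, hj⟩ := exists_pow_eq_self_of_coprime hco.symm
    rw [← hj]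
    exact pow_mem h1 j
  have hle : Nat.card (N ⧸ C') ≤ Nat.card {w : W P // w ≠ 1} := by
    refine Nat.card_le_card_of_injective (Quotient.lift (s := QuotientGroup.leftRel C')
      (fun n : N => (⟨⟨(n : G) * z * (n : G)⁻¹,
          (mem_normalizer_iff.1 (h.N_le_normalizer_W n.2) z).1 hzW⟩,
        fun e => hz1 (conj_eq_one_iff.1 (congrArg Subtype.val e))⟩ : {w : W P // w ≠ 1}))
      fun x y hxy => ?_) fun u v => ?_
    · have h1 := mem_centralizer_singleton_iff.1
        (hCz (mem_subgroupOf.1 (QuotientGroup.leftRel_apply.1 hxy)))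
      push_cast at h1
      refine Subtype.ext (Subtype.ext ?_)
      show (x : G) * z * (x : G)⁻¹ = (y : G) * z * (y : G)⁻¹
      calc (x : G) * z * (x : G)⁻¹ = (x : G) * (z * ((x : G)⁻¹ * y)) * (y : G)⁻¹ := by group
        _ = (x : G) * ((x : G)⁻¹ * y * z) * (y : G)⁻¹ := by rw [h1]
        _ = (y : G) * z * (y : G)⁻¹ := by group
    · induction u using QuotientGroup.induction_on with | _ x => ?_
      induction v using QuotientGroup.induction_on with | _ y => ?_
      intro e
      have e' : (x : G) * z * (x : G)⁻¹ = (y : G) * z * (y : G)⁻¹ :=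
        congrArg Subtype.val (congrArg Subtype.val e)
      refine QuotientGroup.eq.2 (mem_subgroupOf.2 (hfix _ (mul_mem (inv_mem x.2) y.2) ?_))
      push_cast
      calc (x : G)⁻¹ * y * z = (x : G)⁻¹ * ((y : G) * z * (y : G)⁻¹) * y := by group
        _ = (x : G)⁻¹ * ((x : G) * z * (x : G)⁻¹) * y := by rw [e']
        _ = z * ((x : G)⁻¹ * y) := by group
  rw [← index_eq_card, hC', h.index_C hfree] at hle
  haveI := Fintype.ofFinite (W P)
  rw [Nat.card_eq_fintype_card (α := {w : W P // w ≠ 1}), Fintype.card_subtype_compl,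
    Fintype.card_subtype_eq, ← Nat.card_eq_fintype_card] at hle
  have := Nat.card_pos (α := W P)
  have := h.big
  omega

/-- The points other than `N(P)` are at least `|P| (|P| - 1)` in number. -/
theorem index_ge : Nat.card (P : Subgroup G) * (Nat.card (P : Subgroup G) - 1) + 1 ≤
    (normalizer ((P : Subgroup G) : Set G)).index := by
  haveI := Fact.mk h.prime
  haveI := h.simple
  set N := normalizer ((P : Subgroup G) : Set G) with hN
  have hSE := h.stronglyEmbedded_N
  obtain ⟨g, hg, w, hw, hwg⟩ : ∃ g : G, g ∉ N ∧ ∃ w ∈ W P, g⁻¹ * w * g ∉ N := by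
    by_contra hno
    push Not at hno
    have hle : W P ≤ N.normalCore := fun w hw b => by
      by_cases hb : b ∈ N
      · exact mul_mem (mul_mem hb (centralizer_le_normalizer _ (h.W_le hw))) (inv_mem hb)
      · simpa using hno b⁻¹ (fun e => hb (inv_mem_iff.1 e)) w hw
    rcases N.normalCore_normal.eq_bot_or_eq_top with e | e
    · exact h.W_ne_bot hfree (eq_bot_iff.2 (e ▸ hle))
    · exact hSE.1 (top_le_iff.1 (e ▸ N.normalCore_le))
  have hfixP : ∀ v ∈ (P : Subgroup G), g⁻¹ * v * g ∈ N → v = 1 := by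
    intro v hv hvg
    by_contra hv1
    exact hg (inv_mem_iff.1 (Involution.StrongEmb.mem_of_conj_mem hSE (le_normalizer hv)
      (h.orderOf_eq_two hv hv1) (g := g⁻¹) (by rw [inv_inv]; exact hvg)))
  have hvw : ∀ v ∈ (P : Subgroup G), ∀ x ∈ W P, g⁻¹ * (v * x) * g ∈ N →
      v = 1 ∧ g⁻¹ * x * g ∈ N := by
    intro v hv x hx hm
    have hc : Commute v x := mem_centralizer_iff.1 (h.W_le hx) v hv
    have h1 : v = 1 := hfixP v hv (by
      have e : (v * x) ^ p = v := by
        obtain ⟨j, hj⟩ := h.odd_p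
        rw [hc.mul_pow, h.W_pow hx, mul_one, hj, pow_succ, pow_mul, pow_two, h.sq v hv, one_pow,
          one_mul]
      have := pow_mem hm p
      rwa [show (g⁻¹ * (v * x) * g) ^ p = g⁻¹ * (v * x) ^ p * g by
        simpa using (conj_pow (i := p) (a := g⁻¹) (b := v * x)), e] at this)
    exact ⟨h1, by rwa [h1, one_mul] at hm⟩
  -- a bound from the orbit of a subgroup of `P W`
  have hbound : ∀ X : Subgroup G, X ≤ W P → (∀ x ∈ X, g⁻¹ * x * g ∈ N → x = 1) →
      Nat.card (P : Subgroup G) * Nat.card X + 1 ≤ N.index := by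
    intro X hXW hX
    haveI := Fintype.ofFinite (G ⧸ N)
    have hcompl : Nat.card {c : G ⧸ N // c ≠ ((1 : G) : G ⧸ N)} + 1 = N.index := by
      rw [Nat.card_eq_fintype_card, Fintype.card_subtype_compl, Fintype.card_subtype_eq,
        ← Nat.card_eq_fintype_card, index_eq_card]
      have := Nat.card_pos (α := G ⧸ N)
      omega
    rw [← hcompl, ← Nat.card_prod, Nat.add_le_add_iff_right]
    refine Nat.card_le_card_of_injective
      (fun z => ⟨((((z.1 : G) * z.2) * g : G) : G ⧸ N), fun e => hg ?_⟩) ?_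
    · have h1 := QuotientGroup.eq.1 e
      rw [mul_one, inv_mem_iff] at h1
      have h2 : (z.1 : G) * z.2 ∈ N := mul_mem (le_normalizer z.1.2)
        (centralizer_le_normalizer _ (h.W_le (hXW z.2.2)))
      have h3 := mul_mem (inv_mem h2) h1
      rwa [inv_mul_cancel_left] at h3
    · intro a b e
      have h1 := QuotientGroup.eq.1 (congrArg Subtype.val e)
      rw [show ((a.1 : G) * a.2 * g)⁻¹ * ((b.1 : G) * b.2 * g) =
        g⁻¹ * (((a.1 : G)⁻¹ * b.1) * ((a.2 : G)⁻¹ * b.2)) * g by
        rw [show (a.1 : G)⁻¹ * b.1 * ((a.2 : G)⁻¹ * b.2) = (a.1 : G)⁻¹ * ((b.1 : G) * (a.2 : G)⁻¹) * b.2 by group,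
          mem_centralizer_iff.1 (h.W_le (hXW (inv_mem a.2.2))) b.1 b.1.2,
          show (a.1 : G)⁻¹ * ((a.2 : G)⁻¹ * b.1) * b.2 = ((a.1 : G)⁻¹ * (a.2 : G)⁻¹) * (b.1 * b.2) by group,
          mem_centralizer_iff.1 (h.W_le (hXW (inv_mem a.2.2))) _ (inv_mem a.1.2)]
        group] at h1
      have hm : (a.2 : G)⁻¹ * b.2 ∈ X := mul_mem (inv_mem a.2.2) b.2.2
      obtain ⟨e1, e2⟩ := hvw _ (mul_mem (inv_mem a.1.2) b.1.2) _ (hXW hm) h1
      exact Prod.ext (Subtype.ext (inv_mul_eq_one.1 e1))
        (Subtype.ext (inv_mul_eq_one.1 (hX _ hm e2)))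
  by_cases hd : p ∣ Nat.card (P : Subgroup G) - 1
  · have hwo : orderOf w = p := (h.prime.eq_one_or_self_of_dvd _
      (orderOf_dvd_of_pow_eq_one (h.W_pow hw))).resolve_left fun e => hwg (by
        rw [orderOf_eq_one_iff.1 e]; simp)
    have := hbound (zpowers w) (zpowers_le.2 hw) fun x hx hxg => by
      by_contra hx1
      refine hwg ?_
      haveI : Fact (Nat.card (zpowers w)).Prime := ⟨by rw [Nat.card_zpowers, hwo]; exact h.prime⟩
      have hgen : w ∈ zpowers x := by
        refine ((zpowers x).subgroupOf (zpowers w)).eq_bot_or_eq_top_of_prime_card.elim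
          (fun e => absurd (show (⟨x, hx⟩ : zpowers w) ∈ (zpowers x).subgroupOf (zpowers w) from
            mem_zpowers x) (by rw [e, mem_bot]; exact fun e' => hx1 (congrArg Subtype.val e')))
          fun e => subgroupOf_eq_top.1 e (mem_zpowers w)
      obtain ⟨j, rfl⟩ := hgen
      have := zpow_mem hxg j
      rwa [show (g⁻¹ * x * g) ^ j = g⁻¹ * x ^ j * g by
        simpa using (conj_zpow (i := j) (a := g⁻¹) (b := x))] at this
    rwa [Nat.card_zpowers, hwo, ← h.eq_pred_of_dvd hfree hd] at this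
  · have hq := h.le_card_W hfree hd
    refine le_trans ?_ (hbound (W P) le_rfl fun x hx hxg => ?_)
    · have : Nat.card (P : Subgroup G) * (Nat.card (P : Subgroup G) - 1) ≤
          Nat.card (P : Subgroup G) * Nat.card (W P) := Nat.mul_le_mul_left _ (by omega)
      omega
    · by_contra hx1
      set x' := g⁻¹ * x * g with hx'
      by_cases hxC : x' ∈ centralizer ((P : Subgroup G) : Set G)
      · obtain ⟨a, ha, ha1⟩ := h.exists_mem_ne_one
        have hconj : g * a * g⁻¹ ∈ centralizer ({x} : Set G) := by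
          have h1 := mem_centralizer_iff.1 hxC a ha
          rw [mem_centralizer_singleton_iff]
          calc g * a * g⁻¹ * x = g * (a * x') * g⁻¹ := by rw [hx']; group
            _ = g * (x' * a) * g⁻¹ := by rw [h1]
            _ = x * (g * a * g⁻¹) := by rw [hx']; group
        exact hg (Involution.StrongEmb.mem_of_conj_mem hSE (le_normalizer ha)
          (h.orderOf_eq_two ha ha1) (h.centralizer_W_le hx hx1 hconj))
      · set C' := (centralizer ((P : Subgroup G) : Set G)).subgroupOf N with hC'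
        haveI hCn : C'.Normal := by
          refine ⟨fun c hc k => mem_subgroupOf.2 (mem_centralizer_iff.2 fun v hv => ?_)⟩
          have h1 := mem_centralizer_iff.1 (mem_subgroupOf.1 hc) _
            ((mem_normalizer_iff''.1 k.2 v).1 hv)
          push_cast
          calc v * ((k : G) * c * (k : G)⁻¹) = (k : G) * ((k : G)⁻¹ * v * k * c) * (k : G)⁻¹ := by
                group
            _ = (k : G) * (c * ((k : G)⁻¹ * v * k)) * (k : G)⁻¹ := by rw [h1]
            _ = (k : G) * c * (k : G)⁻¹ * v := by group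
        have hxp : x' ^ p = 1 := by
          rw [hx', show (g⁻¹ * x * g) ^ p = g⁻¹ * x ^ p * g by
            simpa using (conj_pow (i := p) (a := g⁻¹) (b := x)), h.W_pow hx]
          group
        have h1 := C'.pow_index_mem ⟨x', hxg⟩
        rw [hC', h.index_C hfree] at h1
        have h2 : x' ^ (Nat.card (P : Subgroup G) - 1) ∈ centralizer ((P : Subgroup G) : Set G) :=
          mem_subgroupOf.1 h1
        obtain ⟨j, hj⟩ := exists_pow_eq_self_of_coprime (x := x')
          (n := Nat.card (P : Subgroup G) - 1) ((h.prime.coprime_iff_not_dvd.2 hd).coprime_dvd_left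
            (orderOf_dvd_of_pow_eq_one hxp)).symm
        exact hxC (hj ▸ pow_mem h2 j)

/-- The automizer is not free. -/
theorem not_free_aux : False := by
  haveI : Fact (Nat.Prime 2) := ⟨Nat.prime_two⟩
  letI := Fintype.ofFinite G
  obtain ⟨M, hM⟩ := CharInt.exists_isPModular_of_prime Nat.prime_two
  haveI : M.IsMaximal := hM.2.1
  have S := h.setup hfree
  have hT : InvolRankOne.Transitive P := fun a ha ha1 b hb hb1 => h.transitive ha ha1 hb hb1
  have hW : InvolRankOne.W P ≠ ⊥ := h.W_ne_bot hfree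
  have hO : ∀ K : Subgroup G, K.Normal → Odd (Nat.card K) → K = ⊥ := fun K hK hKodd => by
    haveI := h.simple
    refine hK.eq_bot_or_eq_top.resolve_right fun e => ?_
    obtain ⟨a, ha, ha1⟩ := h.exists_mem_ne_one
    have := hKodd.of_dvd_nat (K.orderOf_dvd_natCard (e ▸ mem_top a))
    rw [h.orderOf_eq_two ha ha1] at this
    exact absurd this (by decide)
  obtain ⟨u, hu, hu1⟩ := h.exists_mem_ne_one
  choose d hd using fun χ : IrrCharacter G => S.exists_int hu χ
  set q := Nat.card (P : Subgroup G) with hqdef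
  set B := Finset.univ.filter (fun χ : IrrCharacter G => χ ∈ principalBlock M G) with hBdef
  have hup := S.sum_cube_le hM hT hu hu1 d hd
  rw [← (normalizer ((P : Subgroup G) : Set G)).index_mul_card, h.card_N hfree, ← hqdef,
    ← hBdef] at hup
  set R := ∑ χ ∈ B, (d χ : ℝ) ^ 3 / charDegree χ.1 with hR
  have hq8 : 8 ≤ q := h.big
  have hsq : ∑ χ ∈ B, d χ * d χ = (q : ℤ) := by
    have h' := S.sum_sq hM hu hu1
    rw [Finset.sum_congr rfl (g := fun χ => ((d χ * d χ : ℤ) : ℂ)) fun χ _ => by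
      rw [hd χ, map_intCast, Int.cast_mul], ← Int.cast_sum] at h'
    exact_mod_cast h'
  set t := Char.trivialChar G
  have ht : t ∈ B := Finset.mem_filter.2 ⟨Finset.mem_univ _, Blocks.trivial_mem_principalBlock⟩
  have hdt : d t = 1 := by
    have := hd t
    rw [Char.trivialChar_apply] at this
    exact_mod_cast this.symm
  have hft : charDegree t.1 = 1 := by
    have := Char.charDegree_cast t
    rw [Char.trivialChar_apply] at this
    exact_mod_cast this
  have hrest : ∑ χ ∈ B.erase t, d χ * d χ = (q : ℤ) - 1 := by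
    rw [Finset.sum_erase_eq_sub ht, hsq, hdt]; ring
  -- every other character loses little
  have hq1 : (0 : ℝ) < (q : ℝ) - 1 := by
    have : (8 : ℝ) ≤ q := by exact_mod_cast hq8
    linarith
  have hlow : ∀ χ ∈ B.erase t,
      -((((q : ℝ) - 2) / ((q : ℝ) - 1) ^ 2) * (d χ : ℝ) ^ 2) ≤ (d χ : ℝ) ^ 3 / charDegree χ.1 := by
    intro χ hχ
    have hf : (0 : ℝ) < charDegree χ.1 := Nat.cast_pos.2 (Char.charDegree_pos χ)
    have hc0 : (0 : ℝ) ≤ ((q : ℝ) - 2) / ((q : ℝ) - 1) ^ 2 :=
      div_nonneg (by linarith [show (8 : ℝ) ≤ q by exact_mod_cast hq8]) (by positivity)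
    rcases le_or_gt 0 (d χ) with hd0 | hd0
    · have : (0 : ℝ) ≤ (d χ : ℝ) ^ 3 / charDegree χ.1 :=
        div_nonneg (pow_nonneg (by exact_mod_cast hd0) 3) hf.le
      nlinarith [mul_nonneg hc0 (sq_nonneg (d χ : ℝ))]
    have hdeg : (q : ℝ) ≤ charDegree χ.1 + ((q : ℝ) - 1) * d χ := by
      exact_mod_cast S.degree_ge hO hM hT hW hu hu1
        (Finset.mem_filter.1 (Finset.mem_of_mem_erase hχ)).2 (hd χ)
    have hsmall : d χ * d χ ≤ (q : ℤ) - 1 :=
      hrest ▸ Finset.single_le_sum (f := fun χ => d χ * d χ) (fun χ _ => mul_self_nonneg _) hχ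
    have hd2 : -((q : ℤ) - 2) ≤ d χ := by
      by_contra hlt
      push Not at hlt
      have hq8' : (8 : ℤ) ≤ q := by exact_mod_cast hq8
      nlinarith [mul_self_le_mul_self (show (0 : ℤ) ≤ (q : ℤ) - 2 by omega)
        (show (q : ℤ) - 2 ≤ -d χ by omega)]
    have hd2' : -((q : ℝ) - 2) ≤ d χ := by exact_mod_cast hd2
    have hdn : (d χ : ℝ) < 0 := by exact_mod_cast hd0
    have hkey : ((q : ℝ) - 1) ^ 2 * (-(d χ : ℝ)) ≤ ((q : ℝ) - 2) * charDegree χ.1 := by
      have hq2 : (0 : ℝ) ≤ (q : ℝ) - 2 := by linarith [show (8 : ℝ) ≤ q by exact_mod_cast hq8]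
      nlinarith [mul_le_mul_of_nonneg_left hdeg hq2, mul_le_mul_of_nonneg_left hd2' hq1.le]
    rw [le_div_iff₀ hf]
    have h1 : (d χ : ℝ) ^ 2 * (-(d χ : ℝ)) * ((q : ℝ) - 1) ^ 2 ≤
        (d χ : ℝ) ^ 2 * (((q : ℝ) - 2) * charDegree χ.1) := by
      have := mul_le_mul_of_nonneg_left hkey (sq_nonneg (d χ : ℝ))
      nlinarith [this]
    have e : ((q : ℝ) - 2) / ((q : ℝ) - 1) ^ 2 * (d χ : ℝ) ^ 2 * charDegree χ.1 =
        (d χ : ℝ) ^ 2 * (((q : ℝ) - 2) * charDegree χ.1) / ((q : ℝ) - 1) ^ 2 := by ring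
    rw [neg_mul, e, neg_le, le_div_iff₀ (by positivity)]
    linarith [h1, show -(d χ : ℝ) ^ 3 * ((q : ℝ) - 1) ^ 2 =
      (d χ : ℝ) ^ 2 * (-(d χ : ℝ)) * ((q : ℝ) - 1) ^ 2 by ring]
  have hR1 : 1 / ((q : ℝ) - 1) ≤ R := by
    have hrest' : ∑ χ ∈ B.erase t, (d χ : ℝ) ^ 2 = (q : ℝ) - 1 := by
      have := congrArg (Int.cast : ℤ → ℝ) hrest
      push_cast at this
      simpa [pow_two] using this
    have h1 := Finset.sum_le_sum hlow
    rw [Finset.sum_neg_distrib, ← Finset.mul_sum, hrest'] at h1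
    rw [hR, ← Finset.add_sum_erase _ _ ht, hdt, hft]
    refine le_trans (le_of_eq ?_) (add_le_add le_rfl h1)
    push_cast
    field_simp
    ring
  have hn := h.index_ge hfree
  rw [← hqdef] at hn
  have hW0 : (1 : ℝ) ≤ Nat.card (W P) := by exact_mod_cast Nat.card_pos (α := W P)
  have hn' : (q : ℝ) * ((q : ℝ) - 1) + 1 ≤
      ((normalizer ((P : Subgroup G) : Set G)).index : ℝ) := by
    have := (Nat.cast_le (α := ℝ)).2 hn
    push_cast [Nat.cast_sub (show 1 ≤ q by omega)] at this
    exact this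
  push_cast [Nat.cast_sub (show 1 ≤ q by omega), Nat.cast_sub (show 2 ≤ q by omega)] at hup
  rw [show InvolRankOne.W P = W P from rfl] at hup
  set n := ((normalizer ((P : Subgroup G) : Set G)).index : ℝ)
  have hR1' : 1 ≤ R * ((q : ℝ) - 1) := (div_le_iff₀ hq1).1 hR1
  have hn0 : 0 ≤ n := Nat.cast_nonneg _
  have hfac : 0 ≤ n * (Nat.card (W P) : ℝ) * q := by positivity
  nlinarith [mul_le_mul_of_nonneg_left hR1' hfac,
    mul_le_mul_of_nonneg_left hn' (show (0 : ℝ) ≤ (Nat.card (W P) : ℝ) * q by positivity),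
    mul_pos (show (0 : ℝ) < q by linarith) (show (0 : ℝ) < Nat.card (W P) by linarith),
    mul_pos (mul_pos (show (0 : ℝ) < q by linarith) (show (0 : ℝ) < Nat.card (W P) by linarith))
      (show (0 : ℝ) < q by linarith)]

end Hyp

end Cfsg.Agent.TwoPCent
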