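import Cfsg.Agent.Lib.TwoPCent.Fixed

/-!
# The centralizer of an element of order `p`

In the configuration `Auto p P a x A` the normalizer of `⟨x⟩` is `C(x)`, and `x` fixes at most
three conjugates of `N(P)`: the element `x` is not real, so the group swapping two conjugates is a
complement of `P` in `P A`, which forces a fixed conjugate to be moved by `C(x) ∩ N(A)`, of order at
most `2p`.  Hence `|C(x)|` is `2p` or `18`.
-/

set_option autoImplicit false
set_option linter.style.haveILetI false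
set_option linter.unusedSectionVars false

namespace Cfsg.Agent.TwoPCent

open Cfsg Subgroup
open scoped Pointwise

universe u

variable {G : Type u} [Group G] {p : ℕ} {P : Sylow 2 G}

namespace Hyp

variable [Finite G] (h : Hyp p P)
include h

/-- A group of elements commuting with an element of order `p` whose `p`-subgroups have order
dividing `p` and whose 2-subgroups have order dividing 2 has order dividing `2p`. -/
theorem dvd_two_p {X : Subgroup G} {x : G} (hx : orderOf x = p) (hX : X ≤ centralizer ({x} : Set G))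
    (h2 : ∀ Q : Subgroup G, Q ≤ X → IsPGroup 2 Q → Nat.card Q ∣ 2)
    (hp : ∀ Q : Subgroup G, Q ≤ X → IsPGroup p Q → Nat.card Q ∣ p) : Nat.card X ∣ 2 * p := by
  refine (Nat.dvd_iff_prime_pow_dvd_dvd _ _).2 fun r k hr hd => ?_
  rcases k with _ | k
  · simp
  haveI := Fact.mk hr
  obtain ⟨Q, hQ⟩ := Sylow.exists_subgroup_card_pow_prime r (G := X) hd
  have hQc : Nat.card (Q.map X.subtype) = r ^ (k + 1) := by
    rw [card_map_of_injective X.subtype_injective, hQ]
  have hQp : IsPGroup r (Q.map X.subtype) := IsPGroup.of_card hQc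
  rcases eq_or_ne r 2 with rfl | hr2
  · exact hQc ▸ (h2 _ (map_subtype_le Q) hQp).trans (dvd_mul_right 2 p)
  rcases eq_or_ne r p with rfl | hrp
  · exact hQc ▸ (hp _ (map_subtype_le Q) hQp).trans (dvd_mul_left _ 2)
  exfalso
  obtain ⟨⟨y, hy⟩, hyo⟩ := exists_prime_orderOf_dvd_card' (G := X) r
    ((dvd_pow_self r k.succ_ne_zero).trans hd)
  rw [Subgroup.orderOf_mk] at hyo
  have := h.eq_one_of_commute hx (y := y) (by rw [hyo]; exact h.coprime_two_p hr hr2 hrp)
    (mem_centralizer_singleton_iff.1 (hX hy)).symm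
  rw [this, orderOf_one] at hyo
  exact hr.one_lt.ne hyo

end Hyp

namespace Auto

variable [Finite G] {a x : G} {A : Subgroup G} (au : Auto p P a x A) (h : Hyp p P)

include au in
theorem normP : A ⊔ (P : Subgroup G) ≤ normalizer ((P : Subgroup G) : Set G) :=
  sup_le au.leA le_normalizer

include au h

theorem orderA : orderOf a = 2 := h.orderOf_eq_two au.memP au.ne_one

theorem x_ne_one : x ≠ 1 := fun e => h.prime.one_lt.ne (by rw [← au.orderX, e, orderOf_one])

/-- The decomposition `n = v y x^i` is unique. -/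
theorem unique {v v' y y' : G} {i j : ℕ} (hv : v ∈ (P : Subgroup G))
    (hv' : v' ∈ (P : Subgroup G)) (hy : y ∈ A) (hy' : y' ∈ A)
    (e : v * y * x ^ i = v' * y' * x ^ j) : v = v' ∧ y = y' ∧ x ^ i = x ^ j := by
  set N := normalizer ((P : Subgroup G) : Set G) with hN
  let f : ↥(P : Subgroup G) × ↥A × Fin p → N := fun z =>
    ⟨(z.1 : G) * z.2.1 * x ^ (z.2.2 : ℕ),
      mul_mem (mul_mem (le_normalizer z.1.2) (au.leA z.2.1.2)) (pow_mem au.memX _)⟩
  have hred : ∀ k : ℕ, x ^ k = x ^ ((⟨k % p, Nat.mod_lt _ h.prime.pos⟩ : Fin p) : ℕ) := fun k => by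
    rw [Fin.val_mk, ← au.orderX, pow_mod_orderOf]
  have hf : Function.Bijective f := by
    rw [Nat.bijective_iff_surjective_and_card]
    refine ⟨fun n => ?_, ?_⟩
    · obtain ⟨v, hv, y, hy, k, hk⟩ := au.decomp n n.2
      exact ⟨(⟨v, hv⟩, ⟨y, hy⟩, ⟨k % p, Nat.mod_lt _ h.prime.pos⟩),
        Subtype.ext (by rw [hk, hred k])⟩
    · rw [Nat.card_prod, Nat.card_prod, Nat.card_fin, au.cardN]
  have h1 := @hf.1 (⟨v, hv⟩, ⟨y, hy⟩, ⟨i % p, Nat.mod_lt _ h.prime.pos⟩)
    (⟨v', hv'⟩, ⟨y', hy'⟩, ⟨j % p, Nat.mod_lt _ h.prime.pos⟩)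
    (Subtype.ext (by simp only [f]; rw [← hred, ← hred, e]))
  simp only [Prod.mk.injEq, Subtype.mk.injEq, Fin.mk.injEq] at h1
  refine ⟨h1.1, h1.2.1, ?_⟩
  rw [hred i, hred j]
  exact congrArg (x ^ ·) h1.2.2

/-- An element of `A ⟨x⟩` is conjugate under `P` to a power of `x` only if it is that power. -/
theorem conj_eq {v y : G} {i k : ℕ} (hv : v ∈ (P : Subgroup G)) (hy : y ∈ A)
    (e : v * (y * x ^ i) * v⁻¹ = x ^ k) : y = 1 ∧ x ^ i = x ^ k := by
  have hz : y * x ^ i ∈ normalizer ((P : Subgroup G) : Set G) :=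
    mul_mem (au.leA hy) (pow_mem au.memX i)
  have hv' : v * ((y * x ^ i) * v⁻¹ * (y * x ^ i)⁻¹) ∈ (P : Subgroup G) :=
    mul_mem hv ((mem_normalizer_iff.1 hz _).1 (inv_mem hv))
  have h1 := au.unique h hv' (one_mem _) hy (one_mem A) (i := i) (j := k)
    (by rw [one_mul, one_mul, ← e]; group)
  exact ⟨h1.2.1, h1.2.2⟩

/-- No nontrivial element of `P` normalizes `A`. -/
theorem eq_one_of_norm {v : G} (hv : v ∈ (P : Subgroup G))
    (hn : ∀ y ∈ A, v * y * v⁻¹ ∈ A) : v = 1 := by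
  haveI : Nontrivial A := Finite.one_lt_card_iff_nontrivial.1 (by
    have := h.big; have := au.cardA; omega)
  obtain ⟨⟨y, hy⟩, hy1⟩ := exists_ne (1 : A)
  have hy' : y ≠ 1 := fun e => hy1 (Subtype.ext e)
  have hA : v * y * v⁻¹ * y⁻¹ ∈ A := mul_mem (hn y hy) (inv_mem hy)
  have hP : v * y * v⁻¹ * y⁻¹ ∈ (P : Subgroup G) := by
    rw [show v * y * v⁻¹ * y⁻¹ = v * (y * v⁻¹ * y⁻¹) by group]
    exact mul_mem hv ((mem_normalizer_iff.1 (au.leA hy) _).1 (inv_mem hv))
  have h1 := (au.unique h hP (one_mem _) (one_mem A) hA (i := 0) (j := 0) (by simp)).1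
  have hc : y * v = v * y := by
    have h2 : v * y * v⁻¹ = y := mul_inv_eq_one.1 h1
    exact (mul_inv_eq_iff_eq_mul.1 h2).symm
  exact (au.semi y hy v hv hc).resolve_left hy'

theorem x_conj_mem {y : G} (hy : y ∈ A) (j : ℕ) : x ^ j * y * (x ^ j)⁻¹ ∈ A :=
  (mem_normalizer_iff.1 (pow_mem au.normA j) y).1 hy

/-- An involution commuting with `x` is conjugate to `a` in `C(x)`. -/
theorem conj_to_a {b : G} (hb : orderOf b = 2) (hxb : Commute x b) :
    ∃ c, Commute c x ∧ c * b * c⁻¹ = a := by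
  have hSE := h.stronglyEmbedded_N
  set N := normalizer ((P : Subgroup G) : Set G)
  have haN : a ∈ N := le_normalizer au.memP
  by_cases hbN : b ∈ N
  · have hbP := h.mem_P_of_two hbN ⟨1, by rw [hb, pow_one]⟩
    rcases au.fix b hbP hxb with e | e
    · rw [e, orderOf_one] at hb; exact absurd hb (by norm_num)
    · exact ⟨1, Commute.one_left _, by rw [e]; group⟩
  have haa : a * a = 1 := h.sq a au.memP
  have hbb := Involution.StrongEmb.mul_self_of_orderOf hb
  have hm := Involution.Isolated.middle_conj haa hbb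
    (Involution.StrongEmb.odd_orderOf_mul hSE haN (au.orderA h) hbN hb)
  have hmm := Involution.Isolated.middle_mul_self haa hbb
  have hxm : Commute x (Involution.Isolated.middle a b) := by
    have hxa : Commute x a := au.commX
    exact hxa.mul_right ((hxa.mul_right hxb).pow_right _)
  generalize Involution.Isolated.middle a b = m at hm hmm hxm
  refine ⟨m, hxm.symm, ?_⟩
  rw [show m⁻¹ = m from inv_eq_of_mul_eq_one_right hmm, ← hm]
  simp [mul_assoc, hmm, ← mul_assoc m m]

/-- The normalizer of `⟨x⟩` is `C(x)`. -/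
theorem norm_eq_cent {g : G} (hg : g * x * g⁻¹ ∈ zpowers x) : Commute g x := by
  obtain ⟨k, hk⟩ := (isOfFinOrder_of_finite x).mem_powers_iff_mem_zpowers.2 hg
  have hk' : x ^ k = g * x * g⁻¹ := hk
  have hne : g * x * g⁻¹ ≠ 1 := fun e => au.x_ne_one h (conj_eq_one_iff.1 e)
  have hxb : Commute x (g * a * g⁻¹) := by
    obtain ⟨j, hj⟩ := mem_zpowers_of_prime h.prime au.orderX hg hne
    have h1 : Commute (g * x * g⁻¹) (g * a * g⁻¹) :=
      (show Commute x a from au.commX).map (MulAut.conj g).toMonoidHom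
    exact hj ▸ h1.zpow_left j
  obtain ⟨c, hc, hca⟩ := au.conj_to_a h
    (by rw [Involution.StrongEmb.orderOf_conj']; exact au.orderA h) hxb
  set g' := c * g with hg'
  have hga : g' * a = a * g' :=
    mul_inv_eq_iff_eq_mul.1 (by rw [hg']; refine Eq.trans ?_ hca; group)
  have hg'N : g' ∈ normalizer ((P : Subgroup G) : Set G) :=
    h.cent_le_N au.memP au.ne_one (mem_centralizer_singleton_iff.2 hga)
  obtain ⟨v, hv, y, hy, j, hj⟩ := au.decomp g' hg'N
  have he1 : g' * x * g'⁻¹ = x ^ k := by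
    have h1 : c * x ^ k * c⁻¹ = x ^ k := by rw [(hc.pow_right k).eq, mul_inv_cancel_right]
    rw [← h1, hk', hg']; group
  have he2 : v * (y * x * y⁻¹) * v⁻¹ = x ^ k := by
    rw [← he1, hj]
    have h1 : x ^ j * x * (x ^ j)⁻¹ = x := by
      rw [((Commute.refl x).pow_left j).eq, mul_inv_cancel_right]
    calc v * (y * x * y⁻¹) * v⁻¹ = v * (y * (x ^ j * x * (x ^ j)⁻¹) * y⁻¹) * v⁻¹ := by rw [h1]
      _ = _ := by group
  have hA' : y * (x ^ 1 * y⁻¹ * (x ^ 1)⁻¹) ∈ A := mul_mem hy (au.x_conj_mem h (inv_mem hy) 1)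
  obtain ⟨hy1, hk1⟩ := au.conj_eq h hv hA' (i := 1) (k := k) (by
    rw [← he2, pow_one]; group)
  have hcg : Commute g' x := by
    rw [pow_one] at hk1
    exact mul_inv_eq_iff_eq_mul.1 (by rw [he1, ← hk1])
  have h1 := hc.inv_left.mul_left hcg
  rwa [hg', inv_mul_cancel_left] at h1

theorem eq_of_conj_mem {g : G} (hg : g⁻¹ * x * g ∈ zpowers x) : g⁻¹ * x * g = x := by
  have h1 := au.norm_eq_cent h (g := g⁻¹) (by rw [inv_inv]; exact hg)
  rw [h1.eq, inv_mul_cancel_right]

/-- `x` is not real. -/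
theorem not_real (g : G) : g * x * g⁻¹ ≠ x⁻¹ := by
  intro e
  have hc := au.norm_eq_cent h (g := g) (e ▸ inv_mem (mem_zpowers x))
  rw [hc.eq, mul_inv_cancel_right, eq_inv_iff_mul_eq_one] at e
  have h1 : orderOf x ∣ 2 := orderOf_dvd_of_pow_eq_one (by rw [pow_two]; exact e)
  rw [au.orderX] at h1
  exact absurd (Nat.le_of_dvd two_pos h1) (not_le.2 h.two_lt)

theorem not_dvd_card_P : ¬ p ∣ Nat.card (P : Subgroup G) := fun hd => by
  obtain ⟨n, hn⟩ := P.2.exists_card_eq
  rw [hn] at hd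
  exact h.ne_two ((Nat.prime_dvd_prime_iff_eq h.prime Nat.prime_two).1 (h.prime.dvd_of_dvd_pow hd))

theorem odd_A : Odd (Nat.card A) := by
  obtain ⟨n, hn⟩ := P.2.exists_card_eq
  have hn' : Nat.card (P : Subgroup G) = 2 ^ n := hn
  have := h.big
  have := au.cardA
  rcases n with _ | n
  · rw [pow_zero] at hn'; omega
  · rw [Nat.odd_iff]; rw [pow_succ] at hn'; omega

theorem coprime_A_P : (Nat.card A).Coprime (Nat.card (P : Subgroup G)) :=
  (h.coprime_P_of_odd (au.odd_A h)).symm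

/-- An element of `N(P)` of order `p` is conjugate there to a power of `x`. -/
theorem conj_in_N {z : G} (hz : z ∈ normalizer ((P : Subgroup G) : Set G)) (ho : orderOf z = p) :
    ∃ n ∈ normalizer ((P : Subgroup G) : Set G), n * z * n⁻¹ ∈ zpowers x := by
  haveI := Fact.mk h.prime
  set N := normalizer ((P : Subgroup G) : Set G)
  have hpx : ∀ w : G, ∀ hw : w ∈ N, orderOf w = p → ∃ S : Sylow p N, zpowers (⟨w, hw⟩ : N) ≤ S :=
    fun w hw hwo => (IsPGroup.of_card (n := 1) (by
      rw [Nat.card_zpowers, Subgroup.orderOf_mk, hwo, pow_one])).exists_le_sylow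
  obtain ⟨Sx, hSx⟩ := hpx x au.memX au.orderX
  obtain ⟨Sz, hSz⟩ := hpx z hz ho
  have hcard : Nat.card (Sx : Subgroup N) = p := by
    rw [Sx.card_eq_multiplicity, au.cardN, Nat.factorization_mul Nat.card_pos.ne'
      (Nat.mul_ne_zero Nat.card_pos.ne' h.prime.ne_zero), Nat.factorization_mul Nat.card_pos.ne'
      h.prime.ne_zero]
    simp [Nat.factorization_eq_zero_of_not_dvd (au.not_dvd_card_P h),
      Nat.factorization_eq_zero_of_not_dvd au.notdvd, h.prime.factorization_self]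
  have heq : zpowers (⟨x, au.memX⟩ : N) = (Sx : Subgroup N) := eq_of_le_of_card_ge hSx (by
    rw [hcard, Nat.card_zpowers, Subgroup.orderOf_mk, au.orderX])
  obtain ⟨n, hn⟩ := MulAction.exists_smul_eq N Sz Sx
  refine ⟨n, n.2, ?_⟩
  have h1 : MulAut.conj n (⟨z, hz⟩ : N) ∈ ((n • Sz : Sylow p N) : Subgroup N) :=
    ⟨⟨z, hz⟩, hSz (mem_zpowers _), rfl⟩
  rw [hn, ← heq] at h1
  obtain ⟨k, hk⟩ := h1
  exact ⟨k, congrArg Subtype.val hk⟩

/-- An element of `N(P)` of order `p` is not real. -/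
theorem not_real_N {z : G} (hz : z ∈ normalizer ((P : Subgroup G) : Set G)) (ho : orderOf z = p)
    (i : G) : i * z * i⁻¹ ≠ z⁻¹ := by
  intro e
  obtain ⟨n, hn, hnz⟩ := au.conj_in_N h hz ho
  have hne : n * z * n⁻¹ ≠ 1 := fun e1 => by
    rw [conj_eq_one_iff.1 e1, orderOf_one] at ho
    exact h.prime.one_lt.ne ho
  obtain ⟨j, hj⟩ := mem_zpowers_of_prime h.prime au.orderX hnz hne
  refine au.not_real h (n * i * n⁻¹) ?_
  have h1 : n * i * n⁻¹ * (n * z * n⁻¹) * (n * i * n⁻¹)⁻¹ = (n * z * n⁻¹)⁻¹ := by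
    calc n * i * n⁻¹ * (n * z * n⁻¹) * (n * i * n⁻¹)⁻¹ = n * (i * z * i⁻¹) * n⁻¹ := by group
      _ = _ := by rw [e]; group
  rw [← show (n * z * n⁻¹) ^ j = x from hj, ← conj_zpow, h1, inv_zpow]

theorem mem_normalizer_AP {g : G} (hg : g ∈ normalizer ((P : Subgroup G) : Set G)) :
    g ∈ normalizer (((A ⊔ (P : Subgroup G)) : Subgroup G) : Set G) := by
  have hx : x ∈ normalizer (((A ⊔ (P : Subgroup G)) : Subgroup G) : Set G) := by
    refine Coprime.mem_normalizer_of_conj_smul_eq ?_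
    rw [Subgroup.smul_sup, Coprime.conj_smul_eq_self_of_mem au.normA,
      Coprime.conj_smul_eq_self_of_mem au.memX]
  obtain ⟨v, hv, y, hy, k, rfl⟩ := au.decomp g hg
  exact mul_mem (mul_mem (le_normalizer (mem_sup_right hv)) (le_normalizer (mem_sup_left hy)))
    (pow_mem hx k)

/-- An element of `N(P)` of order prime to `p` lies in `A P`. -/
theorem mem_AP {d : G} (hd : d ∈ normalizer ((P : Subgroup G) : Set G))
    (hp : p.Coprime (orderOf d)) : d ∈ A ⊔ (P : Subgroup G) := by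
  set N := normalizer ((P : Subgroup G) : Set G)
  set M := A ⊔ (P : Subgroup G) with hM
  haveI : (M.subgroupOf N).Normal :=
    Coprime.normal_subgroupOf_of_le_normalizer fun g hg => au.mem_normalizer_AP h hg
  obtain ⟨v, hv, y, hy, k, e⟩ := au.decomp d hd
  have hvy : v * y ∈ M := mul_mem (mem_sup_right hv) (mem_sup_left hy)
  have hx' : ((QuotientGroup.mk (s := M.subgroupOf N) ⟨x, au.memX⟩)) ^ p = 1 := by
    rw [← QuotientGroup.mk_pow, show (⟨x, au.memX⟩ : N) ^ p = 1 from Subtype.ext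
      (orderOf_dvd_iff_pow_eq_one.1 au.orderX.dvd)]
    rfl
  have hd' : (QuotientGroup.mk (s := M.subgroupOf N) ⟨d, hd⟩) =
      (QuotientGroup.mk (s := M.subgroupOf N) ⟨x, au.memX⟩) ^ k := by
    rw [← QuotientGroup.mk_pow, QuotientGroup.eq_iff_div_mem, mem_subgroupOf]
    simpa [e, div_eq_mul_inv] using hvy
  have hdp : d ^ p ∈ M := by
    have h1 : (QuotientGroup.mk (s := M.subgroupOf N) (⟨d, hd⟩ ^ p)) = 1 := by
      rw [QuotientGroup.mk_pow, hd', ← pow_mul, mul_comm, pow_mul, hx', one_pow]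
    exact mem_subgroupOf.1 ((QuotientGroup.eq_one_iff _).1 h1)
  obtain ⟨m, hm⟩ := exists_pow_eq_self_of_coprime hp
  rw [← hm]
  exact pow_mem hdp m

/-- For `g ∉ N(P)` a conjugate of `A` under `P` lies in the conjugate `N(P)^g`. -/
theorem exists_compl_swap {g : G} (hg : g ∉ normalizer ((P : Subgroup G) : Set G)) :
    ∃ v ∈ (P : Subgroup G), MulAut.conj v • A = (A ⊔ (P : Subgroup G)) ⊓
      MulAut.conj g • normalizer ((P : Subgroup G) : Set G) := by
  classical
  haveI := h.isMulComm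
  have hSE := h.stronglyEmbedded_N
  set N := normalizer ((P : Subgroup G) : Set G) with hN
  set B := (A ⊔ (P : Subgroup G)) ⊓ MulAut.conj g • N with hB
  have hBN : B ≤ N := inf_le_left.trans au.normP
  have hBodd : Odd (Nat.card B) :=
    (hSE.2.2 g hg).of_dvd_nat (card_dvd_of_le (le_inf hBN (fun y hy => (mem_inf.1 hy).2)))
  -- the involutions exchanging the two conjugates
  have hI : Nat.card {t : G // orderOf t = 2 ∧ t ∈ N} + 1 = Nat.card (P : Subgroup G) := by
    have h1 : Nat.card {t : G // orderOf t = 2 ∧ t ∈ N} =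
        Nat.card {v : (P : Subgroup G) // v ≠ 1} := by
      refine Nat.card_eq_of_bijective (fun t => ⟨⟨t.1, h.mem_P_of_two t.2.2 ⟨1, by
        rw [t.2.1, pow_one]⟩⟩, fun e => by
          have := t.2.1
          rw [show t.1 = 1 from congrArg Subtype.val e, orderOf_one] at this
          exact absurd this (by norm_num)⟩) ⟨fun s t e => ?_, fun v => ?_⟩
      · exact Subtype.ext (by simpa using congrArg (fun z => ((z.1 : (P : Subgroup G)) : G)) e)
      · exact ⟨⟨v.1, h.orderOf_eq_two v.1.2 fun e => v.2 (Subtype.ext e), le_normalizer v.1.2⟩,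
          rfl⟩
    haveI := Fintype.ofFinite (P : Subgroup G)
    rw [h1, Nat.card_eq_fintype_card, Nat.card_eq_fintype_card, Fintype.card_subtype_compl,
      Fintype.card_subtype_eq]
    have := Fintype.card_pos (α := (P : Subgroup G))
    omega
  have hT := Involution.StrongEmb.card_swap_base hSE g hg
  have hTpos : 0 < Nat.card {i : G // orderOf i = 2 ∧ i • ((1 : G) : G ⧸ N) = (g : G ⧸ N)} := by
    have := h.big; omega
  obtain ⟨⟨u, hu2, hu⟩⟩ := (Nat.card_pos_iff.1 hTpos).1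
  rw [Involution.StrongEmb.smul_one_eq_iff] at hu
  have hinj : ∀ i : G, orderOf i = 2 → g⁻¹ * i ∈ N → u * i ∈ B := by
    intro i hi2 hi
    have hui := Involution.StrongEmb.inv_eq_of_orderOf hu2
    have hii := Involution.StrongEmb.inv_eq_of_orderOf hi2
    have hdN : u * i ∈ N := by
      have h1 := mul_mem (inv_mem hu) hi
      rwa [mul_inv_rev, inv_inv, mul_assoc, mul_inv_cancel_left, hui] at h1
    have hdg : u * i ∈ MulAut.conj g • N := by
      rw [Coprime.mem_conj_smul_iff]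
      have h1 := mul_mem hu (inv_mem hi)
      rw [mul_inv_rev, inv_inv, hii] at h1
      simpa [mul_assoc] using h1
    refine mem_inf.2 ⟨au.mem_AP h hdN (h.prime.coprime_iff_not_dvd.2 fun hd => ?_), hdg⟩
    -- an element of order `p` inverted by `u`
    have hzo : orderOf ((u * i) ^ (orderOf (u * i) / p)) = p := by
      rw [orderOf_pow_of_dvd (Nat.div_pos (Nat.le_of_dvd (orderOf_pos _) hd) h.prime.pos).ne'
        (Nat.div_dvd_of_dvd hd), Nat.div_div_self hd (orderOf_pos _).ne']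
    refine au.not_real_N h (pow_mem hdN _) hzo u ?_
    rw [← conj_pow, ← inv_pow]
    congr 1
    rw [mul_inv_rev, hui, hii]
    simp [← mul_assoc, Involution.StrongEmb.mul_self_of_orderOf hu2]
  have hge : Nat.card A ≤ Nat.card B := by
    have h1 : Nat.card {i : G // orderOf i = 2 ∧ i • ((1 : G) : G ⧸ N) = (g : G ⧸ N)} ≤
        Nat.card B := by
      refine Nat.card_le_card_of_injective (fun i => (⟨u * i.1,
        hinj i.1 i.2.1 (Involution.StrongEmb.smul_one_eq_iff.1 i.2.2)⟩ : B)) fun i j e => ?_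
      exact Subtype.ext (mul_left_cancel (congrArg Subtype.val e))
    have := au.cardA
    omega
  have hcopB : (Nat.card B).Coprime (Nat.card (P : Subgroup G)) := (h.coprime_P_of_odd hBodd).symm
  have hle : Nat.card B ≤ Nat.card A := by
    have h1 := Coprime.card_sup_of_le_normalizer hBN (Coprime.disjoint_of_coprime_card hcopB)
    have h2 := Coprime.card_sup_of_le_normalizer au.leA
      (Coprime.disjoint_of_coprime_card (au.coprime_A_P h))
    have h3 : Nat.card (B ⊔ (P : Subgroup G) : Subgroup G) ≤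
        Nat.card (A ⊔ (P : Subgroup G) : Subgroup G) :=
      card_le_of_le (sup_le inf_le_left le_sup_right)
    rw [h1, h2] at h3
    exact Nat.le_of_mul_le_mul_right h3 Nat.card_pos
  exact Coprime.exists_conj_eq_of_le_sup_of_comm (P : Subgroup G) A B au.leA inf_le_left
    (le_antisymm hle hge) (au.coprime_A_P h)

/-- A coset moved off `N(P)` and fixed by `x` is `e m N(P)` with `m ∈ C(x) ∩ N(A)`. -/
theorem exists_norm {g : G} (hg : g ∉ normalizer ((P : Subgroup G) : Set G))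
    (hgx : g⁻¹ * x * g ∈ normalizer ((P : Subgroup G) : Set G)) :
    ∃ e, (e = 1 ∨ e = a) ∧ ∃ m, m ∉ normalizer ((P : Subgroup G) : Set G) ∧ Commute m x ∧
      m ∈ normalizer (A : Set G) ∧ g⁻¹ * (e * m) ∈ normalizer ((P : Subgroup G) : Set G) := by
  haveI := h.isMulComm
  obtain ⟨v, hv, hB⟩ := au.exists_compl_swap h hg
  set N := normalizer ((P : Subgroup G) : Set G) with hN
  have hxg : MulAut.conj x • MulAut.conj g • N = MulAut.conj g • N := by
    rw [Coprime.conj_smul_smul, show x * g = g * (g⁻¹ * x * g) by group,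
      ← Coprime.conj_smul_smul, Coprime.conj_smul_eq_self_of_mem (le_normalizer hgx)]
  have hxB : MulAut.conj x • MulAut.conj v • A = MulAut.conj v • A := by
    rw [hB, Subgroup.smul_inf,
      Coprime.conj_smul_eq_self_of_mem (au.mem_normalizer_AP h au.memX), hxg]
  have hw : v⁻¹ * (x * v * x⁻¹) = 1 := by
    refine au.eq_one_of_norm h (mul_mem (inv_mem hv) ((mem_normalizer_iff.1 au.memX v).1 hv))
      fun y hy => ?_
    have h1 : x * (v * (x⁻¹ * y * x) * v⁻¹) * x⁻¹ ∈ MulAut.conj v • A := by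
      have h2 : v * (x⁻¹ * y * x) * v⁻¹ ∈ MulAut.conj v • A := by
        rw [Coprime.mem_conj_smul_iff]
        simpa [mul_assoc] using (mem_normalizer_iff''.1 au.normA y).1 hy
      rw [← hxB, Coprime.mem_conj_smul_iff]
      simpa [mul_assoc] using h2
    rw [Coprime.mem_conj_smul_iff] at h1
    rw [show v⁻¹ * (x * v * x⁻¹) * y * (v⁻¹ * (x * v * x⁻¹))⁻¹ =
      v⁻¹ * (x * (v * (x⁻¹ * y * x) * v⁻¹) * x⁻¹) * v by group]
    exact h1
  have hxv : x * v = v * x := by
    rw [inv_mul_eq_one, eq_comm] at hw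
    exact mul_inv_eq_iff_eq_mul.1 hw
  refine ⟨v, au.fix v hv hxv, ?_⟩
  set g' := v⁻¹ * g with hg'
  have hg'x : g'⁻¹ * x * g' = g⁻¹ * x * g := by
    have h1 : v * x * v⁻¹ = x := by rw [← hxv, mul_inv_cancel_right]
    calc g'⁻¹ * x * g' = g⁻¹ * (v * x * v⁻¹) * g := by rw [hg']; group
      _ = _ := by rw [h1]
  -- `A` moved into `N(P)`
  set A' := MulAut.conj g'⁻¹ • A with hA'
  have hA'N : A' ≤ N := by
    intro z hz
    rw [hA', Coprime.mem_conj_smul_iff, inv_inv] at hz
    have h1 : v * (g' * z * g'⁻¹) * v⁻¹ ∈ MulAut.conj v • A := by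
      rw [Coprime.mem_conj_smul_iff]; simpa [mul_assoc] using hz
    rw [hB] at h1
    have h2 := (mem_inf.1 h1).2
    rw [Coprime.mem_conj_smul_iff, hg'] at h2
    simpa [mul_assoc] using h2
  have hA'c : Nat.card A' = Nat.card A := Coprime.card_conj_smul _ _
  have hA'M : A' ≤ A ⊔ (P : Subgroup G) := fun z hz => au.mem_AP h (hA'N hz)
    (h.prime.coprime_iff_not_dvd.2 fun hd =>
      au.notdvd (hA'c ▸ hd.trans (Subgroup.orderOf_dvd_natCard _ hz)))
  obtain ⟨v', hv', hv'A⟩ := Coprime.exists_conj_eq_of_le_sup_of_comm (P : Subgroup G) A A' au.leA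
    hA'M hA'c (au.coprime_A_P h)
  set l := g' * v' with hl
  have hlA : l ∈ normalizer (A : Set G) := by
    refine Coprime.mem_normalizer_of_conj_smul_eq ?_
    rw [hl, ← Coprime.conj_smul_smul, hv'A, hA', Coprime.conj_smul_smul, mul_inv_cancel, map_one,
      one_smul]
  have hzN : l⁻¹ * x * l ∈ N := by
    rw [show l⁻¹ * x * l = v'⁻¹ * (g'⁻¹ * x * g') * v' by rw [hl]; group, hg'x]
    exact mul_mem (mul_mem (inv_mem (le_normalizer hv')) hgx) (le_normalizer hv')
  have hzo : orderOf (l⁻¹ * x * l) = p := by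
    simpa using (Involution.StrongEmb.orderOf_conj' l⁻¹ x).trans au.orderX
  have hzA : l⁻¹ * x * l ∈ normalizer (A : Set G) :=
    mul_mem (mul_mem (inv_mem hlA) au.normA) hlA
  obtain ⟨n, hn, hnz⟩ := au.conj_in_N h hzN hzo
  obtain ⟨w, hw', y, hy, k, hk⟩ := au.decomp _ hzN
  obtain ⟨w', hw'', y', hy', j, hj⟩ := au.decomp n hn
  obtain ⟨i, hi⟩ := (isOfFinOrder_of_finite x).mem_powers_iff_mem_zpowers.2 hnz
  have hw1 : w = 1 := by
    refine au.eq_one_of_norm h hw' fun t ht => ?_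
    have h1 : w ∈ normalizer (A : Set G) := by
      rw [show w = l⁻¹ * x * l * ((x ^ k)⁻¹ * y⁻¹) by rw [hk]; group]
      exact mul_mem hzA (mul_mem (inv_mem (pow_mem au.normA k)) (inv_mem (le_normalizer hy)))
    exact (mem_normalizer_iff.1 h1 t).1 ht
  rw [hw1, one_mul] at hk
  have hnz' : y' * x ^ j * (l⁻¹ * x * l) * (y' * x ^ j)⁻¹ =
      y' * (x ^ j * y * (x ^ j)⁻¹) * (x ^ k * y'⁻¹ * (x ^ k)⁻¹) * x ^ k := by
    have h1 : x ^ j * x ^ k * (x ^ j)⁻¹ = x ^ k := by
      rw [(Commute.pow_pow_self x j k).eq, mul_inv_cancel_right]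
    calc y' * x ^ j * (l⁻¹ * x * l) * (y' * x ^ j)⁻¹
        = y' * (x ^ j * y * (x ^ j)⁻¹) * (x ^ j * x ^ k * (x ^ j)⁻¹) * y'⁻¹ := by rw [hk]; group
      _ = y' * (x ^ j * y * (x ^ j)⁻¹) * x ^ k * y'⁻¹ := by rw [h1]
      _ = _ := by group
  have hmem : y' * (x ^ j * y * (x ^ j)⁻¹) * (x ^ k * y'⁻¹ * (x ^ k)⁻¹) ∈ A :=
    mul_mem (mul_mem hy' (au.x_conj_mem h hy j)) (au.x_conj_mem h (inv_mem hy') k)
  obtain ⟨hy1, hki⟩ := au.conj_eq h hw'' hmem (i := k) (k := i) (by
    rw [← hnz', show x ^ i = n * (l⁻¹ * x * l) * n⁻¹ from hi, hj]; group)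
  rw [hy1, one_mul] at hnz'
  have hn'N : y' * x ^ j ∈ N := mul_mem (au.leA hy') (pow_mem au.memX j)
  refine ⟨l * (y' * x ^ j)⁻¹, fun hm => hg ?_, ?_, ?_, ?_⟩
  · have h1 : g' ∈ N := by
      have := mul_mem (mul_mem hm hn'N) (inv_mem (le_normalizer hv'))
      rwa [inv_mul_cancel_right, hl, mul_inv_cancel_right] at this
    have := mul_mem (le_normalizer hv) h1
    rwa [hg', mul_inv_cancel_left] at this
  · refine Commute.inv_left_iff.1 (au.norm_eq_cent h (g := (l * (y' * x ^ j)⁻¹)⁻¹) ?_)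
    rw [show (l * (y' * x ^ j)⁻¹)⁻¹ * x * ((l * (y' * x ^ j)⁻¹)⁻¹)⁻¹ =
      y' * x ^ j * (l⁻¹ * x * l) * (y' * x ^ j)⁻¹ by group, hnz']
    exact pow_mem (mem_zpowers x) k
  · exact mul_mem hlA (inv_mem (mul_mem (le_normalizer hy') (pow_mem au.normA j)))
  · rw [show g⁻¹ * (v * (l * (y' * x ^ j)⁻¹)) = v' * (y' * x ^ j)⁻¹ by rw [hl, hg']; group]
    exact mul_mem (le_normalizer hv') (inv_mem hn'N)

/-- A 2-group centralized by `x` has order at most 2. -/
theorem two_subgroup {Q : Subgroup G} (hQ : Q ≤ centralizer ({x} : Set G)) (hQ2 : IsPGroup 2 Q) :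
    Nat.card Q ∣ 2 := by
  have hcx : ∀ b ∈ Q, Commute x b := fun b hb =>
    (mem_centralizer_singleton_iff.1 (hQ hb)).symm
  have hsq : ∀ b ∈ Q, b * b = 1 := fun b hb => by
    obtain ⟨k, hk⟩ := IsPGroup.iff_orderOf.1 hQ2 ⟨b, hb⟩
    rw [Subgroup.orderOf_mk] at hk
    have hcop : (orderOf x).Coprime (orderOf b) := by
      rw [au.orderX, hk]
      exact ((Nat.coprime_primes h.prime Nat.prime_two).2 h.ne_two).pow_right k
    have ho := (hcx b hb).orderOf_mul_eq_mul_orderOf_of_coprime hcop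
    have h1 := h.pEl (x * b) (by rw [ho, au.orderX]; exact dvd_mul_right p _)
    rw [ho, au.orderX, mul_comm 2 p] at h1
    rw [← pow_two]
    exact orderOf_dvd_iff_pow_eq_one.1 (Nat.dvd_of_mul_dvd_mul_left h.prime.pos h1)
  by_cases hQ1 : ∀ b ∈ Q, b = 1
  · rw [(Subgroup.eq_bot_iff_forall _).2 hQ1, card_bot]; exact one_dvd 2
  push Not at hQ1
  obtain ⟨b, hb, hb1⟩ := hQ1
  have hle : Q ≤ zpowers b := fun z hz => by
    by_cases hz1 : z = 1
    · rw [hz1]; exact one_mem _
    have hb2 := Invol.orderOf_two_of_mul_self (hsq b hb) hb1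
    have hz2 := Invol.orderOf_two_of_mul_self (hsq z hz) hz1
    obtain ⟨c, hc, hca⟩ := au.conj_to_a h hb2 (hcx b hb)
    have hzb : z * b = b * z := by
      calc z * b = z * b * (b * z * (b * z)) := by rw [hsq _ (mul_mem hb hz), mul_one]
        _ = z * (b * b) * z * (b * z) := by group
        _ = b * z := by rw [hsq b hb, mul_one, hsq z hz, one_mul]
    have hcz : (c * z * c⁻¹) * a = a * (c * z * c⁻¹) := by
      calc c * z * c⁻¹ * a = c * (z * b) * c⁻¹ := by rw [← hca]; group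
        _ = c * (b * z) * c⁻¹ := by rw [hzb]
        _ = a * (c * z * c⁻¹) := by rw [← hca]; group
    have hzN := h.cent_le_N au.memP au.ne_one (mem_centralizer_singleton_iff.2 hcz)
    have hzP := h.mem_P_of_two hzN ⟨1, by rw [Involution.StrongEmb.orderOf_conj', hz2, pow_one]⟩
    have hxz : x * (c * z * c⁻¹) = c * z * c⁻¹ * x := by
      calc x * (c * z * c⁻¹) = x * c * z * c⁻¹ := by group
        _ = c * (x * z) * c⁻¹ := by rw [← hc.eq]; group
        _ = c * z * (x * c⁻¹) := by rw [(hcx z hz).eq]; group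
        _ = c * z * c⁻¹ * x := by rw [(hc.inv_left).symm.eq]; group
    rcases au.fix _ hzP hxz with e | e
    · exact absurd (conj_eq_one_iff.1 e) hz1
    · rw [mul_left_cancel (mul_right_cancel (e.trans hca.symm))]
      exact mem_zpowers b
  refine (card_dvd_of_le hle).trans ?_
  rw [Nat.card_zpowers]
  exact orderOf_dvd_of_pow_eq_one (by rw [pow_two]; exact hsq b hb)

/-- `|C(x)|` is `2p`, or `18` with `p = 3`. -/
theorem card_cent : Nat.card (centralizer ({x} : Set G)) = 2 * p ∨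
    (p = 3 ∧ Nat.card (centralizer ({x} : Set G)) = 18) := by
  haveI := Fact.mk h.prime
  set N := normalizer ((P : Subgroup G) : Set G) with hN
  set K := centralizer ({x} : Set G) with hK
  have hxK : x ∈ K := mem_centralizer_singleton_iff.2 rfl
  -- the intersection with `N(A)`
  set L := K ⊓ normalizer (A : Set G) with hL
  have hxL : x ∈ L := mem_inf.2 ⟨hxK, au.normA⟩
  have hAne : A ≠ ⊥ := fun e => by
    have := au.cardA; have := h.big
    rw [e, card_bot] at *; omega
  have hLc : Nat.card L ∣ 2 * p := by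
    refine h.dvd_two_p au.orderX inf_le_left (fun Q hQ hQ2 => au.two_subgroup h
      (hQ.trans inf_le_left) hQ2) fun Q hQ hQp => ?_
    by_cases hQ1 : Q = ⊥
    · rw [hQ1, card_bot]; exact one_dvd p
    · rw [h.card_eq_p_of_fpf hQp hQ1 (hQ.trans inf_le_right) hAne (au.odd_A h) au.notdvd]
  have hpL : p ∣ Nat.card L := au.orderX ▸ Subgroup.orderOf_dvd_natCard _ hxL
  have hpair : ∀ m m', m ∈ L → m' ∈ L → m ∉ N → m' ∉ N → m⁻¹ * m' ∈ N := by
    intro m m' hm hm' hmN hm'N
    set H := (zpowers x).subgroupOf L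
    have hxN : zpowers x ≤ N := zpowers_le.2 au.memX
    have hHc : Nat.card H = p := by
      rw [Nat.card_congr (subgroupOfEquivOfLe (zpowers_le.2 hxL)).toEquiv, Nat.card_zpowers,
        au.orderX]
    have hidx : H.index ∣ 2 := by
      have h1 := H.card_mul_index
      rw [hHc] at h1
      rw [← h1, mul_comm 2 p] at hLc
      exact Nat.dvd_of_mul_dvd_mul_left h.prime.pos hLc
    rcases (Nat.dvd_prime Nat.prime_two).1 hidx with e | e
    · rw [index_eq_one, subgroupOf_eq_top] at e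
      exact absurd (hxN (e hm)) hmN
    · refine hxN (mem_subgroupOf.1 (show (⟨m, hm⟩ : L)⁻¹ * ⟨m', hm'⟩ ∈ H from
        (mul_mem_iff_of_index_two e).2 ⟨fun hc => ?_, fun hc => ?_⟩))
      · exact absurd (hxN (mem_subgroupOf.1 ((inv_mem_iff (H := H)).1 hc))) hmN
      · exact absurd (hxN (mem_subgroupOf.1 hc)) hm'N
  set H := N.subgroupOf K with hH
  -- three cosets
  obtain ⟨m₀, hm₀, hcov⟩ : ∃ m₀ ∈ K, ∀ k ∈ K,
      k⁻¹ ∈ N ∨ k⁻¹ * m₀ ∈ N ∨ k⁻¹ * (a * m₀) ∈ N := by
    by_cases hex : ∃ m ∈ L, m ∉ N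
    · obtain ⟨m₀, hm₀, hm₀N⟩ := hex
      refine ⟨m₀, (mem_inf.1 hm₀).1, fun k hk => ?_⟩
      by_cases hkN : k ∈ N
      · exact Or.inl (inv_mem hkN)
      obtain ⟨e, he, m, hmN, hmx, hmA, hem⟩ := au.exists_norm h hkN (by
        rw [mul_assoc, (mem_centralizer_singleton_iff.1 hk).symm, inv_mul_cancel_left]
        exact au.memX)
      have h1 := hpair m m₀ (mem_inf.2 ⟨mem_centralizer_singleton_iff.2 hmx.eq, hmA⟩) hm₀ hmN hm₀N
      have h2 := mul_mem hem h1
      rw [show k⁻¹ * (e * m) * (m⁻¹ * m₀) = k⁻¹ * (e * m₀) by group] at h2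
      rcases he with rfl | rfl
      · exact Or.inr (Or.inl (by rwa [one_mul] at h2))
      · exact Or.inr (Or.inr h2)
    · push Not at hex
      refine ⟨1, one_mem _, fun k hk => ?_⟩
      by_cases hkN : k ∈ N
      · exact Or.inl (inv_mem hkN)
      obtain ⟨e, he, m, hmN, hmx, hmA, hem⟩ := au.exists_norm h hkN (by
        rw [mul_assoc, (mem_centralizer_singleton_iff.1 hk).symm, inv_mul_cancel_left]
        exact au.memX)
      exact absurd (hex m (mem_inf.2 ⟨mem_centralizer_singleton_iff.2 hmx.eq, hmA⟩)) hmN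
  have haK : a ∈ K := mem_centralizer_singleton_iff.2 au.commX.symm
  have hidx : H.index ≤ 3 := by
    let f : Fin 3 → K ⧸ H := ![QuotientGroup.mk 1, QuotientGroup.mk ⟨m₀, hm₀⟩,
      QuotientGroup.mk ⟨a * m₀, mul_mem haK hm₀⟩]
    have hf : Function.Surjective f := by
      intro q
      induction q using QuotientGroup.induction_on with | _ k => ?_
      rcases hcov k k.2 with e | e | e
      · exact ⟨0, Eq.symm (QuotientGroup.eq.2 (mem_subgroupOf.2 (by simpa using e)))⟩
      · exact ⟨1, Eq.symm (QuotientGroup.eq.2 (mem_subgroupOf.2 (by simpa using e)))⟩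
      · exact ⟨2, Eq.symm (QuotientGroup.eq.2 (mem_subgroupOf.2 (by simpa using e)))⟩
    rw [index_eq_card]
    exact (Nat.card_le_card_of_surjective f hf).trans (by simp)
  have hHc : Nat.card H = 2 * p := by
    have e1 : Nat.card H = Nat.card (K ⊓ N : Subgroup G) := by
      rw [hH, ← inf_subgroupOf_left, Nat.card_congr (subgroupOfEquivOfLe inf_le_left).toEquiv]
    rw [e1]
    refine Nat.dvd_antisymm (h.dvd_two_p au.orderX inf_le_left (fun Q hQ hQ2 => au.two_subgroup h
      (hQ.trans inf_le_left) hQ2) fun Q hQ hQp => ?_) ?_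
    · obtain ⟨n, hn⟩ := hQp.exists_card_eq
      have h1 : p ^ n ∣ Nat.card A * p := by
        have := card_dvd_of_le (hQ.trans inf_le_right)
        rw [hn, au.cardN] at this
        exact ((h.prime.coprime_iff_not_dvd.2 (au.not_dvd_card_P h)).pow_left n).dvd_of_dvd_mul_left
          this
      rw [hn]
      exact ((h.prime.coprime_iff_not_dvd.2 au.notdvd).pow_left n).dvd_of_dvd_mul_left h1
    · refine Nat.Coprime.mul_dvd_of_dvd_of_dvd
        ((Nat.coprime_primes Nat.prime_two h.prime).2 (Ne.symm h.ne_two)) ?_ ?_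
      · exact au.orderA h ▸ Subgroup.orderOf_dvd_natCard _
          (mem_inf.2 ⟨haK, le_normalizer au.memP⟩)
      · exact au.orderX ▸ Subgroup.orderOf_dvd_natCard _ (mem_inf.2 ⟨hxK, au.memX⟩)
  have hKc := H.card_mul_index
  rw [hHc] at hKc
  have h4 : ¬ 4 ∣ Nat.card K := fun hd => by
    haveI : Fact (Nat.Prime 2) := ⟨Nat.prime_two⟩
    obtain ⟨Q, hQ⟩ := Sylow.exists_subgroup_card_pow_prime 2 (G := K) (n := 2)
      (by norm_num; exact hd)
    have hQc : Nat.card (Q.map K.subtype) = 2 ^ 2 := by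
      rw [card_map_of_injective K.subtype_injective, hQ]
    have := au.two_subgroup h (map_subtype_le Q) (IsPGroup.of_card hQc)
    rw [hQc] at this
    norm_num at this
  have hpos : H.index ≠ 0 := index_ne_zero_of_finite
  obtain e | e | e : H.index = 1 ∨ H.index = 2 ∨ H.index = 3 := by omega
  · exact Or.inl (by rw [← hKc, e, mul_one])
  · exact absurd (by rw [← hKc, e]; exact ⟨p, by ring⟩) h4
  · obtain ⟨⟨y, hy⟩, hyo⟩ := exists_prime_orderOf_dvd_card' (G := K) 3
      (by rw [← hKc, e]; exact dvd_mul_left 3 _)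
    rw [Subgroup.orderOf_mk] at hyo
    have hp3 : p = 3 := by
      by_contra hne
      have := h.eq_one_of_commute au.orderX (y := y)
        (by rw [hyo]; exact h.coprime_two_p Nat.prime_three (by norm_num) (Ne.symm hne))
        (mem_centralizer_singleton_iff.1 hy).symm
      rw [this, orderOf_one] at hyo
      norm_num at hyo
    exact Or.inr ⟨hp3, by rw [← hKc, e, hp3]⟩

end Auto

end Cfsg.Agent.TwoPCent
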